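import Mathlib

/-!
# The polynomials `X² - s X + 1` and the orders of their roots

`f s = X² - s X + 1`. Over an algebraically closed field of characteristic `p`, with `q = p ^ n`:
* `quartic_dvd` : if `s + t` and `s t` lie in the field of `q` elements, then `f s * f t` divides
  `X ^ m - η`, `η = ±1`, for some `m` in the list `Om p q` (the spectrum of `PSp₄(q)`).
* `quad_dvd` : if `s` lies in the field with `q` elements ...
-/

set_option autoImplicit false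

namespace Cfsg.Agent.H374.Quad

open Polynomial

variable {K : Type*} [Field K]

/-- `X² - s X + 1`. -/
noncomputable def f (s : K) : K[X] := X ^ 2 - C s * X + 1

theorem f_eq {α : K} (h : α ≠ 0) : f (α + α⁻¹) = (X - C α) * (X - C α⁻¹) := by
  unfold f
  have h1 : C α * C α⁻¹ = (1 : K[X]) := by rw [← C_mul, mul_inv_cancel₀ h, C_1]
  rw [C_add]
  linear_combination (-1 : K[X]) * h1

theorem f_map {L : Type*} [Field L] (i : K →+* L) (s : K) : (f s).map i = f (i s) := by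
  simp [f]

theorem exists_root [IsAlgClosed K] (s : K) : ∃ α : K, α ≠ 0 ∧ s = α + α⁻¹ := by
  have hd : (f s).degree ≠ 0 := by
    have : (f s).degree = 2 := by unfold f; compute_degree!
    rw [this]; decide
  obtain ⟨α, hα⟩ := IsAlgClosed.exists_root (f s) hd
  have h : α ^ 2 - s * α + 1 = 0 := by
    have := hα
    simpa [f, IsRoot] using this
  have h0 : α ≠ 0 := by
    rintro rfl
    simp at h
  refine ⟨α, h0, ?_⟩
  field_simp
  linear_combination (-1 : K) * h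

theorem add_inv_eq {x y : K} (hx : x ≠ 0) (hy : y ≠ 0) (h : x + x⁻¹ = y + y⁻¹) :
    x = y ∨ x = y⁻¹ := by
  have h1 : (x - y) * (x - y⁻¹) = 0 := by
    have hx1 : x * x⁻¹ = 1 := mul_inv_cancel₀ hx
    have hy1 : y * y⁻¹ = 1 := mul_inv_cancel₀ hy
    linear_combination x * h + hy1 - hx1
  rcases mul_eq_zero.1 h1 with h2 | h2
  · left; exact sub_eq_zero.1 h2
  · right; exact sub_eq_zero.1 h2

theorem isCoprime_f {s t : K} (h : s ≠ t) : IsCoprime (f s) (f t) := by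
  have h' : t - s ≠ 0 := sub_ne_zero.2 h.symm
  -- `(t - s) X = f s - f t`, `1 = f s - X (X - s)`
  refine ⟨1 - C (t - s)⁻¹ * (X - C s), C (t - s)⁻¹ * (X - C s), ?_⟩
  have h1 : C (t - s)⁻¹ * (C t - C s) = (1 : K[X]) := by
    rw [← C_sub, ← C_mul, inv_mul_cancel₀ h', C_1]
  unfold f
  linear_combination (-(X * (X - C s)) : K[X]) * h1

theorem X_sub_C_dvd_pow_sub {α η : K} {m : ℕ} (h : α ^ m = η) : (X - C α) ∣ X ^ m - C η := by
  rw [dvd_iff_isRoot]
  simp [h]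

theorem isCoprime_X_sub_C {α β : K} (h : α ≠ β) : IsCoprime (X - C α) (X - C β) :=
  isCoprime_X_sub_C_of_isUnit_sub (sub_ne_zero.2 h).isUnit

theorem inv_eq_of_sq {η : K} (hη : η ^ 2 = 1) : η⁻¹ = η :=
  inv_eq_of_mul_eq_one_left (by rw [← pow_two, hη])

/-- `f (α + α⁻¹)` divides `X ^ m - η` if `α ^ m = η = ±1`, `α ≠ α⁻¹`. -/
theorem f_dvd {α η : K} (h : α ≠ 0) (hne : α ≠ α⁻¹) {m : ℕ} (h1 : α ^ m = η) (hη : η ^ 2 = 1) :
    f (α + α⁻¹) ∣ X ^ m - C η := by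
  rw [f_eq h]
  apply (isCoprime_X_sub_C hne).mul_dvd (X_sub_C_dvd_pow_sub h1)
  apply X_sub_C_dvd_pow_sub
  rw [inv_pow, h1]
  exact inv_eq_of_sq hη

/-- `f (α + α⁻¹)` divides `(X ^ m - η) ^ 2` if `α ^ m = η = ±1`. -/
theorem f_dvd_sq {α η : K} (h : α ≠ 0) {m : ℕ} (h1 : α ^ m = η) (hη : η ^ 2 = 1) :
    f (α + α⁻¹) ∣ (X ^ m - C η) ^ 2 := by
  rw [f_eq h, pow_two]
  apply mul_dvd_mul (X_sub_C_dvd_pow_sub h1)
  apply X_sub_C_dvd_pow_sub
  rw [inv_pow, h1]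
  exact inv_eq_of_sq hη

theorem sub_pow_p {p : ℕ} [Fact p.Prime] [CharP K p] (m : ℕ) (η : K) :
    (X ^ m - C η : K[X]) ^ p = X ^ (m * p) - C (η ^ p) := by
  rw [sub_pow_char, ← pow_mul, C_pow]

theorem sub_pow_pp {p : ℕ} [Fact p.Prime] [CharP K p] (m k : ℕ) (η : K) :
    (X ^ m - C η : K[X]) ^ (p ^ k) = X ^ (m * p ^ k) - C (η ^ (p ^ k)) := by
  rw [sub_pow_char_pow, ← pow_mul, C_pow]

/-- The spectrum of `PSp₄(q)`, `q = p ^ n`. -/
def Om (p q m : ℕ) : Prop :=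
  m ∣ p * (q - 1) ∨ m ∣ p * (q + 1) ∨ m ∣ (q ^ 2 - 1) / Nat.gcd 2 (q - 1) ∨
    m ∣ (q ^ 2 + 1) / Nat.gcd 2 (q - 1) ∨ (p = 3 ∧ m ∣ 9) ∨ (p = 2 ∧ m ∣ 4)

theorem Om.of_dvd {p q m m' : ℕ} (h : Om p q m) (h' : m' ∣ m) : Om p q m' := by
  rcases h with h | h | h | h | ⟨h, h1⟩ | ⟨h, h1⟩
  · exact Or.inl (h'.trans h)
  · exact Or.inr (Or.inl (h'.trans h))
  · exact Or.inr (Or.inr (Or.inl (h'.trans h)))
  · exact Or.inr (Or.inr (Or.inr (Or.inl (h'.trans h))))
  · exact Or.inr (Or.inr (Or.inr (Or.inr (Or.inl ⟨h, h'.trans h1⟩))))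
  · exact Or.inr (Or.inr (Or.inr (Or.inr (Or.inr ⟨h, h'.trans h1⟩))))

theorem gcd_of_odd {q : ℕ} (h : Odd q) : Nat.gcd 2 (q - 1) = 2 := by
  obtain ⟨k, rfl⟩ := h
  apply Nat.gcd_eq_left
  exact ⟨k, by omega⟩

theorem gcd_of_even {q : ℕ} (h : Even q) (h1 : 2 ≤ q) : Nat.gcd 2 (q - 1) = 1 := by
  have : Odd (q - 1) := Nat.Even.sub_odd (by omega) h odd_one
  exact this.coprime_two_left

theorem sq_sub_one (q : ℕ) (h : 1 ≤ q) : q ^ 2 - 1 = (q - 1) * (q + 1) := by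
  obtain ⟨k, rfl⟩ : ∃ k, q = k + 1 := ⟨q - 1, by omega⟩
  have : (k + 1) ^ 2 = k * (k + 1 + 1) + 1 := by ring
  rw [this]
  simp

/-- `(q² - 1) / (2, q - 1)` is a multiple of `q - 1` and `q + 1`. -/
theorem dvd_torus {q : ℕ} (h : 2 ≤ q) :
    (q - 1) ∣ (q ^ 2 - 1) / Nat.gcd 2 (q - 1) ∧ (q + 1) ∣ (q ^ 2 - 1) / Nat.gcd 2 (q - 1) := by
  rw [sq_sub_one q (by omega)]
  rcases Nat.even_or_odd q with he | ho
  · rw [gcd_of_even he h, Nat.div_one]
    exact ⟨Dvd.intro _ rfl, Dvd.intro_left _ rfl⟩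
  · rw [gcd_of_odd ho]
    obtain ⟨k, rfl⟩ := ho
    constructor
    · refine ⟨k + 1, ?_⟩
      have : (2 * k + 1 - 1) * (2 * k + 1 + 1) = ((2 * k + 1 - 1) * (k + 1)) * 2 := by
        rw [show 2 * k + 1 + 1 = 2 * (k + 1) by ring]; ring
      rw [this, Nat.mul_div_cancel _ (by norm_num)]
    · refine ⟨k, ?_⟩
      have : (2 * k + 1 - 1) * (2 * k + 1 + 1) = ((2 * k + 1 + 1) * k) * 2 := by
        rw [show 2 * k + 1 - 1 = 2 * k by omega]; ring
      rw [this, Nat.mul_div_cancel _ (by norm_num)]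

theorem mul_div_gcd_sub {q : ℕ} (h : 2 ≤ q) :
    (q ^ 2 - 1) / Nat.gcd 2 (q - 1) * Nat.gcd 2 (q - 1) = q ^ 2 - 1 := by
  apply Nat.div_mul_cancel
  rw [sq_sub_one q (by omega)]
  exact (Nat.gcd_dvd_right 2 (q - 1)).mul_right _

theorem mul_div_gcd_add {q : ℕ} (h : 2 ≤ q) :
    (q ^ 2 + 1) / Nat.gcd 2 (q - 1) * Nat.gcd 2 (q - 1) = q ^ 2 + 1 := by
  apply Nat.div_mul_cancel
  have h1 : Nat.gcd 2 (q - 1) ∣ q ^ 2 - 1 := by
    rw [sq_sub_one q (by omega)]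
    exact (Nat.gcd_dvd_right 2 (q - 1)).mul_right _
  have h2 : q ^ 2 + 1 = (q ^ 2 - 1) + 2 := by
    have : 1 ≤ q ^ 2 := Nat.one_le_pow _ _ (by omega)
    omega
  rw [h2]
  exact dvd_add h1 (Nat.gcd_dvd_left 2 (q - 1))

/-- `η ^ 2 = 1` from `η ^ (2, q-1) = 1`. -/
theorem sq_of_gcd {q : ℕ} {η : K} (h : η ^ Nat.gcd 2 (q - 1) = 1) : η ^ 2 = 1 := by
  obtain ⟨c, hc⟩ := Nat.gcd_dvd_left 2 (q - 1)
  rw [hc, pow_mul, h, one_pow]

section frob

variable {p : ℕ} [hp : Fact p.Prime] [CharP K p] {n : ℕ}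

theorem pow_q_add (x y : K) : (x + y) ^ (p ^ n) = x ^ (p ^ n) + y ^ (p ^ n) :=
  add_pow_char_pow x y p n

/-- `α^q = α^{±1}` gives `α ^ (q - 1) = 1` or `α ^ (q + 1) = 1`. -/
theorem pow_of_trace {α : K} {q : ℕ} (hq : 1 ≤ q) (h0 : α ≠ 0) (h : α ^ q = α ∨ α ^ q = α⁻¹) :
    α ^ (q - 1) = 1 ∨ α ^ (q + 1) = 1 := by
  rcases h with h | h
  · left
    have h1 : α ^ (q - 1) * α = α := by
      rw [← pow_succ, Nat.sub_add_cancel hq, h]
    exact mul_right_cancel₀ h0 (by rw [h1, one_mul])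
  · right
    rw [pow_succ, h, inv_mul_cancel₀ h0]

theorem sq_eq_one_of_eq_inv {α : K} (h0 : α ≠ 0) (h : α = α⁻¹) : α ^ 2 = 1 := by
  rw [pow_two]; nth_rewrite 2 [h]; exact mul_inv_cancel₀ h0

/-- An element of order dividing two has order dividing `q - 1` and `q + 1`. -/
theorem pow_of_sq {α : K} (h : α ^ 2 = 1) (_hn : n ≠ 0) :
    α ^ (p ^ n - 1) = 1 ∧ α ^ (p ^ n + 1) = 1 := by
  by_cases hp2 : p = 2
  · subst hp2
    have h1 : α = 1 := by
      have : (α - 1) ^ 2 = 0 := by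
        have := CharTwo.two_eq_zero (R := K)
        linear_combination h - (α - 1) * this
      have := pow_eq_zero_iff (two_ne_zero) |>.1 this
      exact sub_eq_zero.1 this
    simp [h1]
  · have ho : Odd p := hp.out.odd_of_ne_two hp2
    have ho' : Odd (p ^ n) := ho.pow
    obtain ⟨k, hk⟩ := ho'
    rw [hk]
    constructor
    · rw [show 2 * k + 1 - 1 = 2 * k by omega, pow_mul, h, one_pow]
    · rw [show 2 * k + 1 + 1 = 2 * (k + 1) by omega, pow_mul, h, one_pow]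

theorem eta_pow_p {η : K} (h : η ^ 2 = 1) : η ^ p = η := by
  have h0 : η ≠ 0 := by
    rintro rfl; simp at h
  obtain ⟨h1, -⟩ := pow_of_sq (p := p) (n := 1) h one_ne_zero
  rw [pow_one] at h1
  have : η ^ p = η ^ (p - 1) * η := by
    rw [← pow_succ, Nat.sub_add_cancel hp.out.one_le]
  rw [this, h1, one_mul]

theorem eta_pow_pn {η : K} (h : η ^ 2 = 1) (k : ℕ) : η ^ (p ^ k) = η := by
  induction k with
  | zero => simp
  | succ k ih => rw [pow_succ, pow_mul, ih, eta_pow_p h]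

/-- Two conjugate pairs `α^{±1}`, `α^{±q}`. -/
theorem dvd_conj {α : K} (hα0 : α ≠ 0) (h1 : α ^ (p ^ n) ≠ α) (h2 : α ^ (p ^ n) ≠ α⁻¹) {M : ℕ}
    (hM : (α ^ M) ^ 2 = 1) :
    f (α + α⁻¹) * f (α ^ (p ^ n) + (α ^ (p ^ n))⁻¹) ∣ X ^ M - C (α ^ M) := by
  have hαq0 : α ^ (p ^ n) ≠ 0 := pow_ne_zero _ hα0
  have hne : α ≠ α⁻¹ := by
    intro h
    exact h1 (eta_pow_pn (sq_eq_one_of_eq_inv hα0 h) n)
  have hne' : α ^ (p ^ n) ≠ (α ^ (p ^ n))⁻¹ := by
    intro h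
    have h3 := sq_eq_one_of_eq_inv hαq0 h
    have h4 : (α ^ 2) ^ (p ^ n) = 1 := by
      rw [← pow_mul, mul_comm, pow_mul, h3]
    have h5 : (α ^ 2 - 1) ^ (p ^ n) = 0 := by
      rw [sub_pow_char_pow, h4, one_pow, sub_self]
    have h6 : α ^ 2 = 1 := sub_eq_zero.1 (pow_eq_zero_iff (pow_ne_zero _ hp.out.ne_zero) |>.1 h5)
    exact h1 (eta_pow_pn h6 n)
  have hst : α + α⁻¹ ≠ α ^ (p ^ n) + (α ^ (p ^ n))⁻¹ := by
    intro h
    rcases add_inv_eq hα0 hαq0 h with h | h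
    · exact h1 h.symm
    · exact h2 (by rw [h, inv_inv, ← h])
  apply (isCoprime_f hst).mul_dvd
  · exact f_dvd hα0 hne rfl hM
  · apply f_dvd hαq0 hne' _ hM
    rw [← pow_mul, mul_comm _ M, pow_mul]
    exact eta_pow_pn hM n

/-- The orders of the symplectic `4 × 4` matrices modulo `±1`. -/
theorem quartic_dvd [IsAlgClosed K] (hn : n ≠ 0) {s t : K}
    (h1 : (s + t) ^ (p ^ n) = s + t) (h2 : (s * t) ^ (p ^ n) = s * t) :
    ∃ (m : ℕ) (η : K), Om p (p ^ n) m ∧ η ^ 2 = 1 ∧ f s * f t ∣ X ^ m - C η := by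
  set q := p ^ n with hq
  have hq2 : 2 ≤ q := by
    calc 2 ≤ p := hp.out.two_le
      _ ≤ p ^ n := Nat.le_self_pow hn p
  obtain ⟨α, hα0, hα⟩ := exists_root s
  obtain ⟨β, hβ0, hβ⟩ := exists_root t
  have hadd : s ^ q + t ^ q = s + t := by rw [← h1, hq, pow_q_add]
  have hmul : s ^ q * t ^ q = s * t := by rw [← mul_pow, h2]
  have hcase : s ^ q = s ∨ s ^ q = t := by
    have : (s ^ q - s) * (s ^ q - t) = 0 := by
      linear_combination (s ^ q) * hadd - hmul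
    rcases mul_eq_zero.1 this with h | h
    · left; exact sub_eq_zero.1 h
    · right; exact sub_eq_zero.1 h
  have hsq : s ^ q = α ^ q + (α ^ q)⁻¹ := by
    rw [hα, hq, pow_q_add, inv_pow]
  have htq : t ^ q = β ^ q + (β ^ q)⁻¹ := by
    rw [hβ, hq, pow_q_add, inv_pow]
  obtain ⟨hT1, hT2⟩ := dvd_torus hq2
  by_cases hst : s = t
  · -- `s = t`
    have hss : s ^ q = s := by
      rcases hcase with h | h
      · exact h
      · rw [h, hst]
    have hα1 : α ^ (q - 1) = 1 ∨ α ^ (q + 1) = 1 := by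
      apply pow_of_trace (by omega) hα0
      apply add_inv_eq (pow_ne_zero _ hα0) hα0
      rw [← hsq, hss, hα]
    by_cases hinv : α = α⁻¹
    · -- `α = ±1`
      have hα2 := sq_eq_one_of_eq_inv hα0 hinv
      have hf : f s * f t = (X - C α) ^ 4 := by
        rw [← hst, hα, f_eq hα0, ← hinv]; ring
      have hd : ∀ k : ℕ, 4 ≤ p ^ k → f s * f t ∣ X ^ (p ^ k) - C α := by
        intro k hk
        rw [hf]
        have h3 := sub_pow_pp (K := K) (p := p) 1 k α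
        rw [pow_one, one_mul, eta_pow_pn hα2] at h3
        rw [← h3]
        exact pow_dvd_pow _ hk
      by_cases hp2 : p = 2
      · refine ⟨4, α, ?_, hα2, ?_⟩
        · right; right; right; right; right
          exact ⟨hp2, dvd_refl 4⟩
        · have := hd 2 (by rw [hp2]; norm_num)
          rwa [hp2] at this
      by_cases hp3 : p = 3
      · refine ⟨9, α, ?_, hα2, ?_⟩
        · right; right; right; right; left
          exact ⟨hp3, dvd_refl 9⟩
        · have := hd 2 (by rw [hp3]; norm_num)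
          rwa [hp3] at this
      have hp4 : 4 ≤ p := by
        have := hp.out.two_le
        omega
      refine ⟨p, α, ?_, hα2, ?_⟩
      · left; exact Dvd.intro _ rfl
      · have := hd 1 (by rwa [pow_one])
        rwa [pow_one] at this
    · -- `α ≠ α⁻¹`
      have key : ∀ m : ℕ, α ^ m = 1 → f s * f t ∣ X ^ (p * m) - C 1 := by
        intro m hm
        have h3 : f s ∣ X ^ m - C 1 := by
          rw [hα]; exact f_dvd hα0 hinv hm (one_pow _)
        have h4 := sub_pow_p (K := K) (p := p) m 1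
        rw [one_pow] at h4
        rw [mul_comm p m, ← h4, ← hst]
        calc f s * f s ∣ (X ^ m - C 1) * (X ^ m - C 1) := mul_dvd_mul h3 h3
          _ = (X ^ m - C 1) ^ 2 := by ring
          _ ∣ (X ^ m - C 1) ^ p := pow_dvd_pow _ hp.out.two_le
      rcases hα1 with h | h
      · exact ⟨_, 1, Or.inl (dvd_refl _), one_pow _, key _ h⟩
      · exact ⟨_, 1, Or.inr (Or.inl (dvd_refl _)), one_pow _, key _ h⟩
  rcases hcase with hss | hss
  · -- `s, t` in the small field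
    have htt : t ^ q = t := by
      rw [hss] at hadd
      exact add_left_cancel hadd
    have hα1 : α ^ (q - 1) = 1 ∨ α ^ (q + 1) = 1 := by
      apply pow_of_trace (by omega) hα0
      apply add_inv_eq (pow_ne_zero _ hα0) hα0
      rw [← hsq, hss, hα]
    have hβ1 : β ^ (q - 1) = 1 ∨ β ^ (q + 1) = 1 := by
      apply pow_of_trace (by omega) hβ0
      apply add_inv_eq (pow_ne_zero _ hβ0) hβ0
      rw [← htq, htt, hβ]
    -- common exponent
    have key : ∀ m : ℕ, α ^ m = 1 → β ^ m = 1 → f s * f t ∣ X ^ (p * m) - C 1 := by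
      intro m hm hm'
      have h4 := sub_pow_p (K := K) (p := p) m 1
      rw [one_pow] at h4
      rw [mul_comm p m, ← h4]
      have h5 : (X ^ m - C 1 : K[X]) ^ 2 ∣ (X ^ m - C 1) ^ p := pow_dvd_pow _ hp.out.two_le
      apply (isCoprime_f hst).mul_dvd
      · refine Dvd.dvd.trans ?_ h5
        rw [hα]; exact f_dvd_sq hα0 hm (one_pow _)
      · refine Dvd.dvd.trans ?_ h5
        rw [hβ]; exact f_dvd_sq hβ0 hm' (one_pow _)
    by_cases hinvα : α = α⁻¹
    · obtain ⟨h3, h4⟩ := pow_of_sq (p := p) (n := n) (sq_eq_one_of_eq_inv hα0 hinvα) hn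
      rcases hβ1 with h | h
      · exact ⟨_, 1, Or.inl (dvd_refl _), one_pow _, key _ h3 h⟩
      · exact ⟨_, 1, Or.inr (Or.inl (dvd_refl _)), one_pow _, key _ h4 h⟩
    by_cases hinvβ : β = β⁻¹
    · obtain ⟨h3, h4⟩ := pow_of_sq (p := p) (n := n) (sq_eq_one_of_eq_inv hβ0 hinvβ) hn
      rcases hα1 with h | h
      · exact ⟨_, 1, Or.inl (dvd_refl _), one_pow _, key _ h h3⟩
      · exact ⟨_, 1, Or.inr (Or.inl (dvd_refl _)), one_pow _, key _ h h4⟩
    refine ⟨(q ^ 2 - 1) / Nat.gcd 2 (q - 1), 1, Or.inr (Or.inr (Or.inl (dvd_refl _))), one_pow _, ?_⟩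
    have pd : ∀ {γ : K} {a b : ℕ}, a ∣ b → γ ^ a = 1 → γ ^ b = 1 := by
      rintro γ a _ ⟨c, rfl⟩ h
      rw [pow_mul, h, one_pow]
    apply (isCoprime_f hst).mul_dvd
    · rw [hα]
      apply f_dvd hα0 hinvα _ (one_pow _)
      rcases hα1 with h | h
      · exact pd hT1 h
      · exact pd hT2 h
    · rw [hβ]
      apply f_dvd hβ0 hinvβ _ (one_pow _)
      rcases hβ1 with h | h
      · exact pd hT1 h
      · exact pd hT2 h
  · -- `t = s ^ q`
    have htt : t ^ q = s := by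
      rw [hss] at hadd
      linear_combination hadd
    have hαq0 : α ^ q ≠ 0 := pow_ne_zero _ hα0
    have ht' : t = α ^ q + (α ^ q)⁻¹ := by rw [← hss, hsq]
    have hsqq : s = (α ^ q) ^ q + ((α ^ q) ^ q)⁻¹ := by
      rw [← htt, ht', hq, pow_q_add, inv_pow]
    have hα1 : α ^ (q ^ 2 - 1) = 1 ∨ α ^ (q ^ 2 + 1) = 1 := by
      apply pow_of_trace (Nat.one_le_pow _ _ (by omega)) hα0
      apply add_inv_eq (pow_ne_zero _ hα0) hα0
      rw [pow_two, pow_mul, ← hsqq, hα]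
    have hne : α ≠ α⁻¹ := by
      intro h
      have h3 := sq_eq_one_of_eq_inv hα0 h
      have h4 : α ^ q = α := eta_pow_pn h3 n
      apply hst
      rw [ht', h4, hα]
    have hne' : α ^ q ≠ (α ^ q)⁻¹ := by
      intro h
      have h3 := sq_eq_one_of_eq_inv hαq0 h
      have h4 : (α ^ q) ^ q = α ^ q := eta_pow_pn h3 n
      apply hst
      rw [hsqq, h4, ← ht']
    have key : ∀ M : ℕ, (α ^ M) ^ 2 = 1 → f s * f t ∣ X ^ M - C (α ^ M) := by
      intro M hM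
      apply (isCoprime_f hst).mul_dvd
      · rw [hα]
        exact f_dvd hα0 hne rfl hM
      · rw [ht']
        apply f_dvd hαq0 hne' _ hM
        rw [← pow_mul, mul_comm q M, pow_mul]
        exact eta_pow_pn hM n
    rcases hα1 with h | h
    · refine ⟨(q ^ 2 - 1) / Nat.gcd 2 (q - 1), _, Or.inr (Or.inr (Or.inl (dvd_refl _))), ?_, key _ ?_⟩ <;>
      · apply sq_of_gcd (q := q)
        rw [← pow_mul, mul_div_gcd_sub hq2, h]
    · refine ⟨(q ^ 2 + 1) / Nat.gcd 2 (q - 1), _, Or.inr (Or.inr (Or.inr (Or.inl (dvd_refl _)))), ?_, key _ ?_⟩ <;>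
      · apply sq_of_gcd (q := q)
        rw [← pow_mul, mul_div_gcd_add hq2, h]

end frob

end Cfsg.Agent.H374.Quad
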