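import Mathlib
import Cfsg.Agent.H374.Quad

/-!
# The characteristic polynomial of a symplectic matrix is palindromic
-/

set_option autoImplicit false

namespace Cfsg.Agent.H374.SpChar

open Polynomial Matrix

variable {F : Type*} [Field F]

theorem charpoly_conj {n : Type*} [Fintype n] [DecidableEq n] (P Q B : Matrix n n F)
    (h1 : P * Q = 1) : (Q * B * P).charpoly = B.charpoly := by
  rw [Matrix.charpoly_mul_comm, ← mul_assoc, h1, one_mul]

/-- The characteristic polynomial of a symplectic matrix is its own reverse. -/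
theorem reverse_charpoly {m : ℕ} {A : Matrix (Fin m ⊕ Fin m) (Fin m ⊕ Fin m) F}
    (hA : A ∈ symplecticGroup (Fin m) F) : A.charpoly.reverse = A.charpoly := by
  have hdet : A.det = 1 := SymplecticGroup.det_eq_one hA
  have hu : IsUnit A := by
    rw [Matrix.isUnit_iff_isUnit_det, hdet]; exact isUnit_one
  have hinv : A⁻¹ = (-J (Fin m) F) * Aᵀ * J (Fin m) F := by
    apply Matrix.inv_eq_left_inv
    have := SymplecticGroup.inv_left_mul_aux hA
    rw [Matrix.neg_mul, Matrix.neg_mul, Matrix.neg_mul]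
    exact this
  have hJ : J (Fin m) F * (-J (Fin m) F) = 1 := by
    rw [Matrix.mul_neg, J_squared, neg_neg]
  have hJ' : (-J (Fin m) F) * J (Fin m) F = 1 := by
    rw [Matrix.neg_mul, J_squared, neg_neg]
  have h1 : (A⁻¹).charpoly = A.charpoly := by
    rw [hinv, ← charpoly_transpose A]
    exact charpoly_conj _ _ _ hJ
  have h2 := Matrix.charpoly_inv A hu
  rw [h1, hdet, Ring.inverse_one, map_one, mul_one, ← Matrix.reverse_charpoly] at h2
  have h3 : ((-1 : F[X]) ^ Fintype.card (Fin m ⊕ Fin m)) = 1 := by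
    rw [Fintype.card_sum, ← two_mul, pow_mul]; simp
  rw [h3, one_mul] at h2
  exact h2.symm

theorem coeff_symm {m : ℕ} {A : Matrix (Fin m ⊕ Fin m) (Fin m ⊕ Fin m) F}
    (hA : A ∈ symplecticGroup (Fin m) F) {i j : ℕ} (hij : i + j = 2 * m) :
    A.charpoly.coeff i = A.charpoly.coeff j := by
  have h1 : A.charpoly.natDegree = 2 * m := by
    rw [Matrix.charpoly_natDegree_eq_dim]; simp [two_mul]
  conv_lhs => rw [← reverse_charpoly hA]
  rw [coeff_reverse, h1, revAt_le (by omega)]
  congr 1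
  omega

/-- `X⁴ - a X³ + b X² - a X + 1`. -/
noncomputable def g4 (a b : F) : F[X] := X ^ 4 - C a * X ^ 3 + C b * X ^ 2 - C a * X + 1

theorem charpoly_four {A : Matrix (Fin 2 ⊕ Fin 2) (Fin 2 ⊕ Fin 2) F}
    (hA : A ∈ symplecticGroup (Fin 2) F) : ∃ a b : F, A.charpoly = g4 a b := by
  have hdeg : A.charpoly.natDegree = 4 := by
    rw [Matrix.charpoly_natDegree_eq_dim]; simp
  have h4 : A.charpoly.coeff 4 = 1 := by
    have := A.charpoly_monic
    rw [Monic, leadingCoeff, hdeg] at this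
    exact this
  have h0 : A.charpoly.coeff 0 = 1 := by
    rw [coeff_symm hA (i := 0) (j := 4) (by norm_num), h4]
  have h1 : A.charpoly.coeff 1 = A.charpoly.coeff 3 := coeff_symm hA (by norm_num)
  refine ⟨-A.charpoly.coeff 3, A.charpoly.coeff 2, ?_⟩
  generalize A.charpoly = P at *
  generalize hc2 : P.coeff 2 = c2 at *
  generalize hc3 : P.coeff 3 = c3 at *
  rw [P.as_sum_range_C_mul_X_pow, hdeg]
  simp only [Finset.sum_range_succ, Finset.sum_range_zero, h4, h0, h1, hc2, hc3, g4]
  simp only [map_neg, map_one]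
  ring

theorem g4_map {L : Type*} [Field L] (i : F →+* L) (a b : F) : (g4 a b).map i = g4 (i a) (i b) := by
  simp [g4]

theorem g4_eq (s t : F) : g4 (s + t) (s * t + 2) = Quad.f s * Quad.f t := by
  have h2 : (C (2 : F) : F[X]) = 2 := rfl
  simp only [g4, Quad.f, C_add, C_mul, h2]
  ring

theorem g4_split {K : Type*} [Field K] [IsAlgClosed K] (a b : K) :
    ∃ s t : K, a = s + t ∧ b = s * t + 2 := by
  -- a root of `Y² - a Y + (b - 2)`
  let P : K[X] := X ^ 2 - C a * X + C (b - 2)
  have hd : P.degree ≠ 0 := by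
    have : P.degree = 2 := by unfold P; compute_degree!
    rw [this]; decide
  obtain ⟨s, hs⟩ := IsAlgClosed.exists_root P hd
  have h : s ^ 2 - a * s + (b - 2) = 0 := by
    have := hs
    simpa [P, IsRoot] using this
  refine ⟨s, a - s, by ring, ?_⟩
  linear_combination h

/-- `A ^ m = η` from a multiple of a polynomial killing `A`. -/
theorem pow_of_dvd {n : Type*} [Fintype n] [DecidableEq n] {A : Matrix n n F} {P : F[X]}
    (hP : aeval A P = 0) {m : ℕ} {η : F} (h : P ∣ X ^ m - C η) : A ^ m = η • 1 := by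
  obtain ⟨Q, hQ⟩ := h
  have h1 : aeval A (X ^ m - C η) = 0 := by
    rw [hQ, map_mul, hP, zero_mul]
  rw [map_sub, map_pow, aeval_X, aeval_C, sub_eq_zero] at h1
  rw [h1, Algebra.algebraMap_eq_smul_one]

/-- The order of a symplectic `4 × 4` matrix over a finite field modulo scalars. -/
theorem exists_pow [Fintype F] {p n : ℕ} [hp : Fact p.Prime] [CharP F p] (hn : n ≠ 0)
    (hF : Fintype.card F = p ^ n) {A : Matrix (Fin 2 ⊕ Fin 2) (Fin 2 ⊕ Fin 2) F}
    (hA : A ∈ symplecticGroup (Fin 2) F) :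
    ∃ (m : ℕ) (η : F), Quad.Om p (p ^ n) m ∧ η ^ 2 = 1 ∧ A ^ m = η • 1 := by
  obtain ⟨a, b, hab⟩ := charpoly_four hA
  let K := AlgebraicClosure F
  let i : F →+* K := algebraMap F K
  have hK : CharP K p := charP_of_injective_ringHom i.injective p
  obtain ⟨s, t, hst, hst'⟩ := g4_split (i a) (i b)
  have hfix : ∀ x : F, (i x) ^ (p ^ n) = i x := by
    intro x
    rw [← map_pow, ← hF, FiniteField.pow_card]
  obtain ⟨m, η, hm, hη, hdvd⟩ := Quad.quartic_dvd (p := p) (n := n) (s := s) (t := t) hn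
    (by rw [← hst]; exact hfix a)
    (by
      have h2 : s * t = i (b - 2) := by
        rw [map_sub, hst', map_ofNat]; ring
      rw [h2]; exact hfix _)
  have hη1 : η = 1 ∨ η = -1 := sq_eq_one_iff_of_side_eq η hη
  obtain ⟨η', hη', hη2⟩ : ∃ η' : F, i η' = η ∧ η' ^ 2 = 1 := by
    rcases hη1 with h | h
    · exact ⟨1, by rw [map_one, h], one_pow _⟩
    · exact ⟨-1, by rw [map_neg, map_one, h], by norm_num⟩
  refine ⟨m, η', hm, hη2, ?_⟩
  apply pow_of_dvd (P := A.charpoly) (Matrix.aeval_self_charpoly A)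
  rw [← Polynomial.map_dvd_map' i, hab, g4_map, hst, hst', g4_eq]
  simpa [hη'] using hdvd
where
  sq_eq_one_iff_of_side_eq {K : Type _} [Field K] (η : K) (h : η ^ 2 = 1) : η = 1 ∨ η = -1 :=
    sq_eq_one_iff_of_ne_zero' η h
  sq_eq_one_iff_of_ne_zero' {K : Type _} [Field K] (η : K) (h : η ^ 2 = 1) : η = 1 ∨ η = -1 := by
    have h1 : (η - 1) * (η + 1) = 0 := by linear_combination h
    rcases mul_eq_zero.1 h1 with h2 | h2
    · left; exact sub_eq_zero.1 h2
    · right; exact eq_neg_of_add_eq_zero_left h2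

end Cfsg.Agent.H374.SpChar
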