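import Mathlib
import Cfsg.Agent.H374.SpChar

/-!
# Elements of `Sp₄(F)` with prescribed eigenvalues

`comp S = [0 -1; 1 S]`, `S` symmetric, is symplectic; an eigenvector of `S` with eigenvalue `α + α⁻¹`
gives one of `comp S` with eigenvalue `α`.
-/

set_option autoImplicit false

namespace Cfsg.Agent.H374.SpLow

open Polynomial Matrix Quad SpChar

variable {F : Type*} [Field F]

/-! ### finite fields -/

theorem prod_X_sub_C [Fintype F] : (X ^ Fintype.card F - X : F[X]) = ∏ a : F, (X - C a) := by
  classical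
  have h1 : (X ^ Fintype.card F - X : F[X]).Monic :=
    monic_X_pow_sub (by
      rw [degree_X]
      exact_mod_cast Fintype.one_lt_card)
  have h2 := prod_multiset_X_sub_C_of_monic_of_roots_card_eq h1 (by
    rw [FiniteField.roots_X_pow_card_sub_X, FiniteField.X_pow_card_sub_X_natDegree_eq F Fintype.one_lt_card]
    simp)
  rw [FiniteField.roots_X_pow_card_sub_X] at h2
  exact h2.symm

theorem mem_range_of_pow [Fintype F] {K : Type*} [Field K] (i : F →+* K) {x : K}
    (h : x ^ Fintype.card F = x) : ∃ a : F, i a = x := by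
  have h1 := congrArg (fun P : F[X] => P.eval₂ i x) (prod_X_sub_C (F := F))
  simp only [eval₂_sub, eval₂_pow, eval₂_X, h, sub_self, eval₂_finsetProd, eval₂_C] at h1
  obtain ⟨a, -, ha⟩ := Finset.prod_eq_zero_iff.1 h1.symm
  exact ⟨a, (sub_eq_zero.1 ha).symm⟩

/-- A symmetric `2 × 2` matrix over a finite field with given trace and determinant. -/
theorem exists_symm [Fintype F] (a d : F) :
    ∃ S : Matrix (Fin 2) (Fin 2) F, Sᵀ = S ∧ S * S = a • S - d • 1 ∧ S.trace = a ∧ S.det = d := by
  classical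
  have key : ∃ u v : F, u * (a - u) - v ^ 2 = d := by
    by_cases h2 : ringChar F = 2
    · obtain ⟨v, hv⟩ := FiniteField.isSquare_of_char_two h2 (-d)
      exact ⟨0, v, by rw [pow_two, ← hv]; ring⟩
    · have hodd := FiniteField.odd_card_of_char_ne_two h2
      have hf : degree (X ^ 2 - C a * X + C d : F[X]) = 2 := by compute_degree!
      obtain ⟨u, v, huv⟩ := FiniteField.exists_root_sum_quadratic hf (degree_X_pow (R := F) 2)
        (by omega)
      refine ⟨u, v, ?_⟩
      simp only [eval_add, eval_sub, eval_pow, eval_X, eval_mul, eval_C] at huv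
      linear_combination (-1 : F) * huv
  obtain ⟨u, v, huv⟩ := key
  refine ⟨!![u, v; v, a - u], ?_, ?_, ?_, ?_⟩
  · ext i j; fin_cases i <;> fin_cases j <;> rfl
  · ext i j
    fin_cases i <;> fin_cases j <;>
      simp only [Matrix.mul_apply, Fin.sum_univ_two, Matrix.smul_apply, Matrix.sub_apply,
        Matrix.of_apply, Matrix.cons_val', Matrix.cons_val_zero, Matrix.cons_val_one,
        Matrix.cons_val_fin_one, Fin.zero_eta, Fin.mk_one, Fin.isValue, smul_eq_mul,
        Matrix.one_apply_eq, ne_eq, not_false_eq_true, Matrix.one_apply_ne, zero_ne_one,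
        one_ne_zero] <;>
      first
        | ring1
        | linear_combination (-1 : F) * huv
  · simp [Matrix.trace_fin_two]
  · rw [Matrix.det_fin_two_of]
    linear_combination huv

/-! ### The matrices `comp S` -/

/-- `[0 -1; 1 S]`. -/
def comp (S : Matrix (Fin 2) (Fin 2) F) : Matrix (Fin 2 ⊕ Fin 2) (Fin 2 ⊕ Fin 2) F :=
  fromBlocks 0 (-1) 1 S

theorem comp_mem {S : Matrix (Fin 2) (Fin 2) F} (hS : Sᵀ = S) :
    comp S ∈ symplecticGroup (Fin 2) F := by
  rw [comp, SymplecticGroup.fromBlocks_mem_iff]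
  simp [hS]

/-- `comp S` is a root of `X⁴ - a X³ + (d + 2) X² - a X + 1` if `S² = a S - d`. -/
theorem aeval_comp {S : Matrix (Fin 2) (Fin 2) F} {a d : F} (h : S * S = a • S - d • 1) :
    aeval (comp S) (g4 a (d + 2)) = 0 := by
  set A := comp S with hA
  let D : Matrix (Fin 2 ⊕ Fin 2) (Fin 2 ⊕ Fin 2) F := fromBlocks S 0 0 S
  have h1 : A * A + 1 = A * D := by
    rw [hA, comp, ← fromBlocks_one]
    simp only [D, fromBlocks_multiply, fromBlocks_add]
    simp
  have hc : A * D = D * A := by
    rw [hA, comp]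
    simp only [D, fromBlocks_multiply]
    simp
  have hD : D * D = a • D - d • 1 := by
    rw [← fromBlocks_one]
    simp only [D, fromBlocks_multiply, fromBlocks_smul, sub_eq_add_neg, fromBlocks_neg,
      fromBlocks_add, Matrix.mul_zero, Matrix.zero_mul, add_zero, zero_add, smul_zero, neg_zero]
    rw [h, sub_eq_add_neg]
  have h2 : (A * A + 1) * (A * A + 1) = a • (A * (A * A + 1)) - d • (A * A) := by
    rw [h1]
    calc A * D * (A * D) = A * (D * A) * D := by simp only [Matrix.mul_assoc]
      _ = A * A * (D * D) := by rw [← hc]; simp only [Matrix.mul_assoc]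
      _ = a • (A * (A * D)) - d • (A * A) := by
        rw [hD, Matrix.mul_sub, Matrix.mul_smul, Matrix.mul_smul, Matrix.mul_one, Matrix.mul_assoc]
  have h3 : g4 a (d + 2) = (X * X + 1) * (X * X + 1) - C a * (X * (X * X + 1)) + C d * (X * X) := by
    have h2 : (C (2 : F) : F[X]) = 2 := rfl
    simp only [g4, C_add, h2]; ring
  rw [h3]
  simp only [map_add, map_sub, map_mul, aeval_X, map_one, aeval_C, Algebra.algebraMap_eq_smul_one,
    Matrix.smul_mul, Matrix.one_mul, h2]
  abel

theorem comp_map {K : Type*} [Field K] (i : F →+* K) (S : Matrix (Fin 2) (Fin 2) F) :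
    (comp S).map i = comp (S.map i) := by
  rw [comp, comp, fromBlocks_map]
  congr 1
  · ext; simp
  · ext j k; simp only [Matrix.map_apply, Matrix.neg_apply, map_neg, Matrix.one_apply]
    split_ifs <;> simp
  · ext j k; simp only [Matrix.map_apply, Matrix.one_apply]
    split_ifs <;> simp

theorem comp_mulVec {S : Matrix (Fin 2) (Fin 2) F} {α : F} (h0 : α ≠ 0) {v : Fin 2 → F}
    (hv : S *ᵥ v = (α + α⁻¹) • v) : comp S *ᵥ Sum.elim v (-α • v) = α • Sum.elim v (-α • v) := by
  rw [comp, fromBlocks_mulVec]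
  simp only [Sum.elim_comp_inl, Sum.elim_comp_inr, Matrix.zero_mulVec, zero_add, Matrix.neg_mulVec,
    Matrix.one_mulVec, Matrix.mulVec_smul, hv]
  ext j
  rcases j with j | j
  · simp
  · simp only [Sum.elim_inr, Pi.add_apply, Pi.smul_apply, smul_eq_mul]
    field_simp
    ring

theorem pow_mulVec {n : Type*} [Fintype n] [DecidableEq n] {A : Matrix n n F} {α : F} {w : n → F}
    (h : A *ᵥ w = α • w) (k : ℕ) : A ^ k *ᵥ w = α ^ k • w := by
  induction k with
  | zero => simp
  | succ k ih =>
    rw [pow_succ, ← Matrix.mulVec_mulVec, h, Matrix.mulVec_smul, ih, smul_smul, pow_succ, mul_comm]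

/-- A scalar power of `A` on an eigenvector over an extension. -/
theorem pow_eq_of_eigen {n : Type*} [Fintype n] [DecidableEq n] {K : Type*} [Field K] (i : F →+* K)
    {A : Matrix n n F} {α : K} {w : n → K} (hw : w ≠ 0) (h : A.map i *ᵥ w = α • w) {k : ℕ} {c : F}
    (hk : A ^ k = c • 1) : α ^ k = i c := by
  have h1 := pow_mulVec h k
  have h2 : (A.map i) ^ k = i c • 1 := by
    have := congrArg i.mapMatrix hk
    rw [map_pow, RingHom.mapMatrix_apply, RingHom.mapMatrix_apply] at this
    rw [this]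
    ext a b
    simp only [Matrix.map_apply, Matrix.smul_apply, Matrix.one_apply, smul_eq_mul, map_mul]
    split_ifs <;> simp
  rw [h2, Matrix.smul_mulVec, Matrix.one_mulVec] at h1
  obtain ⟨j, hj⟩ := Function.ne_iff.1 hw
  have h3 := congrFun h1 j
  simp only [Pi.smul_apply, smul_eq_mul] at h3
  exact (mul_right_cancel₀ hj h3).symm

/-- An eigenvector of a `2 × 2` matrix. -/
theorem exists_eigen {S : Matrix (Fin 2) (Fin 2) F} {s : F} (h : s ^ 2 - S.trace * s + S.det = 0) :
    ∃ v : Fin 2 → F, v ≠ 0 ∧ S *ᵥ v = s • v := by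
  have hdet : (S - s • 1).det = 0 := by
    rw [Matrix.trace_fin_two, Matrix.det_fin_two] at h
    rw [Matrix.det_fin_two]
    simp only [Matrix.sub_apply, Matrix.smul_apply, Matrix.one_apply_eq, smul_eq_mul, mul_one,
      ne_eq, zero_ne_one, not_false_eq_true, Matrix.one_apply_ne, mul_zero, sub_zero, one_ne_zero]
    linear_combination h
  obtain ⟨v, hv, hv'⟩ := Matrix.exists_mulVec_eq_zero_iff.2 hdet
  refine ⟨v, hv, ?_⟩
  rw [Matrix.sub_mulVec, Matrix.smul_mulVec, Matrix.one_mulVec, sub_eq_zero] at hv'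
  exact hv'

end Cfsg.Agent.H374.SpLow
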