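import Mathlib
import Cfsg.Agent.H374.SpLow
import Cfsg.Agent.LieClassical.SympCenter
import Cfsg.Prelude.Def_Classical

/-!
# The spectrum of `PSp₄(q)`

`mem_range_iff` : for a finite field `F` with `q ≥ 3` elements of characteristic `p`, `n` is the order of
an element of `PSp 2 F` iff `Om p q n`, that is `n` divides `p (q - 1)`, `p (q + 1)`,
`(q² - 1) / (2, q - 1)`, `(q² + 1) / (2, q - 1)`, or `9` (`p = 3`), or `4` (`p = 2`).
-/

set_option autoImplicit false

namespace Cfsg.Agent.H374.SpFour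

open Polynomial Matrix Quad SpChar SpLow

variable {F : Type*} [Field F]

/-- The class of a symplectic matrix. -/
def cl (A : Matrix (Fin 2 ⊕ Fin 2) (Fin 2 ⊕ Fin 2) F) (hA : A ∈ symplecticGroup (Fin 2) F) :
    Cfsg.PSp 2 F := QuotientGroup.mk' _ ⟨A, hA⟩

theorem cl_surj (x : Cfsg.PSp 2 F) : ∃ A hA, cl A hA = x := by
  obtain ⟨⟨A, hA⟩, rfl⟩ := QuotientGroup.mk'_surjective _ x
  exact ⟨A, hA, rfl⟩

theorem cl_pow_eq_one {A : Matrix (Fin 2 ⊕ Fin 2) (Fin 2 ⊕ Fin 2) F}
    {hA : A ∈ symplecticGroup (Fin 2) F} {k : ℕ} :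
    (cl A hA) ^ k = 1 ↔ ∃ c : F, A ^ k = c • 1 := by
  rw [cl, ← map_pow, ← MonoidHom.mem_ker, QuotientGroup.ker_mk',
    LieClassical.SympCenter.mem_center_iff]
  rfl

theorem sq_of_scalar {A : Matrix (Fin 2 ⊕ Fin 2) (Fin 2 ⊕ Fin 2) F}
    (hA : A ∈ symplecticGroup (Fin 2) F) {k : ℕ} {c : F} (h : A ^ k = c • 1) : c ^ 2 = 1 := by
  rw [pow_two]
  apply LieClassical.SympCenter.sq_eq_one_of_smul_mem (m := 2) (by norm_num)
  rw [← h]
  exact pow_mem hA k

theorem exists_of_dvd {G : Type*} [Group G] {x : G} {M m : ℕ} (h : orderOf x = M) (hM : 0 < M)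
    (hm : m ∣ M) : ∃ y : G, orderOf y = m := by
  obtain ⟨c, hc⟩ := hm
  have hc0 : c ≠ 0 := by rintro rfl; omega
  have hm0 : m ≠ 0 := by rintro rfl; omega
  refine ⟨x ^ c, ?_⟩
  rw [orderOf_pow_of_dvd hc0 (by rw [h, hc]; exact Dvd.intro_left _ rfl), h, hc,
    Nat.mul_div_cancel _ (Nat.pos_of_ne_zero hc0)]

section finite

variable [Fintype F] {p n : ℕ} [hp : Fact p.Prime] [CharP F p]

theorem upper (hn : n ≠ 0) (hF : Fintype.card F = p ^ n) (x : Cfsg.PSp 2 F) :
    Om p (p ^ n) (orderOf x) := by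
  obtain ⟨A, hA, rfl⟩ := cl_surj x
  obtain ⟨m, η, hm, -, h⟩ := exists_pow hn hF hA
  exact hm.of_dvd (orderOf_dvd_of_pow_eq_one (cl_pow_eq_one.2 ⟨η, h⟩))

omit hp [CharP F p] in
theorem pow_gcd {c : F} (hF : Fintype.card F = p ^ n) (h : c ^ 2 = 1) :
    c ^ Nat.gcd 2 (p ^ n - 1) = 1 := by
  rw [pow_gcd_eq_one]
  refine ⟨h, ?_⟩
  rw [← hF]
  apply FiniteField.pow_card_sub_one_eq_one
  rintro rfl
  simp at h

omit [Fintype F] in
theorem eta_lift {K : Type*} [Field K] (i : F →+* K) {η : K} (h : η ^ 2 = 1) : ∃ c : F, i c = η := by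
  have h1 : (η - 1) * (η + 1) = 0 := by linear_combination h
  rcases mul_eq_zero.1 h1 with h2 | h2
  · exact ⟨1, by rw [map_one]; exact (sub_eq_zero.1 h2).symm⟩
  · exact ⟨-1, by rw [map_neg, map_one]; exact (eq_neg_of_add_eq_zero_left h2).symm⟩

theorem cast_ne_zero {K : Type*} [Field K] [CharP K p] (hn : n ≠ 0) {M c : ℕ}
    (h : M + 1 = p ^ n * c ∨ M = p ^ n * c + 1) : (M : K) ≠ 0 := by
  intro h0
  rw [CharP.cast_eq_zero_iff K p] at h0
  have h1 : p ∣ p ^ n * c := (dvd_pow_self p hn).mul_right c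
  have h2 : p ∣ 1 := by
    rcases h with h | h
    · rw [← h] at h1
      exact (Nat.dvd_add_right h0).1 h1
    · rw [h] at h0
      exact (Nat.dvd_add_right h1).1 h0
  exact hp.out.one_lt.ne' (Nat.dvd_one.1 h2)

/-- Elements of order `(q² ∓ 1) / (2, q - 1)`. -/
theorem exists_conj (hn : n ≠ 0) (hF : Fintype.card F = p ^ n) (h3 : 3 ≤ p ^ n) {M : ℕ}
    (hM : M = (p ^ n) ^ 2 - 1 ∨ M = (p ^ n) ^ 2 + 1) :
    ∃ x : Cfsg.PSp 2 F, orderOf x = M / Nat.gcd 2 (p ^ n - 1) := by
  set q := p ^ n with hq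
  let K := AlgebraicClosure F
  let i : F →+* K := algebraMap F K
  have hK : CharP K p := charP_of_injective_ringHom i.injective p
  have hq2 : 1 ≤ q ^ 2 := Nat.one_le_pow _ _ (by omega)
  have hMK : (M : K) ≠ 0 := by
    apply cast_ne_zero hn (c := p ^ n)
    rw [← hq, ← pow_two]
    rcases hM with h | h <;> omega
  have : NeZero (M : K) := ⟨hMK⟩
  obtain ⟨α, hα⟩ := HasEnoughRootsOfUnity.exists_primitiveRoot K M
  have hq3 : q + 1 < q ^ 2 - 1 := by
    have : q * 3 ≤ q * q := Nat.mul_le_mul_left _ h3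
    rw [pow_two]; omega
  have hM0 : M ≠ 0 := by omega
  have hα0 : α ≠ 0 := hα.ne_zero hM0
  have h1 : α ^ q ≠ α := by
    intro h
    have h5 : α ^ (q - 1) = 1 := by
      apply mul_right_cancel₀ hα0
      rw [← pow_succ, Nat.sub_add_cancel (by omega), h, one_mul]
    have := Nat.le_of_dvd (by omega) (hα.dvd_of_pow_eq_one _ h5)
    omega
  have h2 : α ^ q ≠ α⁻¹ := by
    intro h
    have h5 : α ^ (q + 1) = 1 := by
      rw [pow_succ, h, inv_mul_cancel₀ hα0]
    have := Nat.le_of_dvd (by omega) (hα.dvd_of_pow_eq_one _ h5)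
    omega
  have hqq : α ^ (q * q) + (α ^ (q * q))⁻¹ = α + α⁻¹ := by
    have : α ^ (q * q) = α ∨ α ^ (q * q) = α⁻¹ := by
      rcases hM with h | h
      · left
        have h5 := hα.pow_eq_one
        rw [h] at h5
        calc α ^ (q * q) = α ^ (q ^ 2 - 1) * α := by
              rw [← pow_succ, Nat.sub_add_cancel hq2, pow_two]
          _ = α := by rw [h5, one_mul]
      · right
        have h5 := hα.pow_eq_one
        rw [h, pow_succ, pow_two] at h5
        exact eq_inv_of_mul_eq_one_left h5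
    rcases this with h | h
    · rw [h]
    · rw [h, inv_inv, add_comm]
  set s := α + α⁻¹ with hs
  set t := α ^ q + (α ^ q)⁻¹ with ht
  have hsq : s ^ q = t := by
    rw [hs, ht, hq, pow_q_add, inv_pow]
  have htq : t ^ q = s := by
    rw [ht, hq, pow_q_add, inv_pow, ← pow_mul, ← hq, hqq]
  obtain ⟨a, ha⟩ := mem_range_of_pow i (x := s + t) (by
    rw [hF, hq, pow_q_add, ← hq, hsq, htq, add_comm])
  obtain ⟨d, hd⟩ := mem_range_of_pow i (x := s * t) (by
    rw [hF, mul_pow, hsq, htq, mul_comm])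
  obtain ⟨S, hS, hSS, hSt, hSd⟩ := exists_symm a d
  have hAm := comp_mem hS
  have hgM : M / Nat.gcd 2 (q - 1) * Nat.gcd 2 (q - 1) = M := by
    rcases hM with h | h
    · rw [h]; exact mul_div_gcd_sub (by omega)
    · rw [h]; exact mul_div_gcd_add (by omega)
  have hg0 : 0 < Nat.gcd 2 (q - 1) := Nat.gcd_pos_of_pos_left _ (by norm_num)
  refine ⟨cl (SpLow.comp S) hAm, ?_⟩
  apply Nat.dvd_antisymm
  · apply orderOf_dvd_of_pow_eq_one
    rw [cl_pow_eq_one]
    have h5 : (α ^ (M / Nat.gcd 2 (q - 1))) ^ 2 = 1 := by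
      apply sq_of_gcd (q := q)
      rw [← pow_mul, hgM, hα.pow_eq_one]
    have h6 := dvd_conj (p := p) (n := n) hα0 h1 h2 h5
    rw [← hq, ← hs, ← ht, ← g4_eq, ← ha, ← hd] at h6
    obtain ⟨c, hc⟩ := eta_lift i h5
    refine ⟨c, pow_of_dvd (aeval_comp hSS) ?_⟩
    rw [← Polynomial.map_dvd_map' i, g4_map, map_add i d 2, map_ofNat i 2]
    simpa [hc] using h6
  · have h5 := pow_orderOf_eq_one (cl (SpLow.comp S) hAm)
    rw [cl_pow_eq_one] at h5
    obtain ⟨c, hc⟩ := h5
    have hc2 := sq_of_scalar hAm hc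
    obtain ⟨v, hv, hv'⟩ := exists_eigen (S := S.map i) (s := s) (by
      have e1 : (S.map i).trace = s + t := by
        rw [Matrix.trace_fin_two, ← ha, ← hSt, Matrix.trace_fin_two]; simp
      have e2 : (S.map i).det = s * t := by
        rw [Matrix.det_fin_two, ← hd, ← hSd, Matrix.det_fin_two]; simp
      rw [e1, e2]; ring)
    have h6 : (SpLow.comp S).map i *ᵥ Sum.elim v (-α • v) = α • Sum.elim v (-α • v) := by
      rw [SpLow.comp_map]
      exact comp_mulVec hα0 hv'
    have h7 := pow_eq_of_eigen i (w := Sum.elim v (-α • v)) (by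
      intro h
      apply hv
      funext j
      exact congrFun h (Sum.inl j)) h6 hc
    have h8 : α ^ (orderOf (cl (SpLow.comp S) hAm) * Nat.gcd 2 (q - 1)) = 1 := by
      rw [pow_mul, h7, ← map_pow, pow_gcd hF hc2, map_one]
    have h9 := hα.dvd_of_pow_eq_one _ h8
    rw [← hgM] at h9
    exact Nat.dvd_of_mul_dvd_mul_right hg0 h9

/-- Elements of order `p (q ∓ 1)`. -/
theorem exists_mixed (hn : n ≠ 0) (hF : Fintype.card F = p ^ n) (h3 : 3 ≤ p ^ n) {M : ℕ}
    (hM : M = p ^ n - 1 ∨ M = p ^ n + 1) : ∃ x : Cfsg.PSp 2 F, orderOf x = p * M := by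
  set q := p ^ n with hq
  let K := AlgebraicClosure F
  let i : F →+* K := algebraMap F K
  have hK : CharP K p := charP_of_injective_ringHom i.injective p
  have hMK : (M : K) ≠ 0 := by
    apply cast_ne_zero hn (c := 1)
    rw [← hq]
    rcases hM with h | h <;> omega
  have : NeZero (M : K) := ⟨hMK⟩
  obtain ⟨α, hα⟩ := HasEnoughRootsOfUnity.exists_primitiveRoot K M
  have hM0 : M ≠ 0 := by omega
  have hα0 : α ≠ 0 := hα.ne_zero hM0
  have hα1 : α ≠ 1 := by
    rintro rfl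
    have := hα.dvd_of_pow_eq_one 1 (by simp)
    have := Nat.le_of_dvd one_pos this
    omega
  have hqq : α ^ q = α ∨ α ^ q = α⁻¹ := by
    rcases hM with h | h
    · left
      have h5 := hα.pow_eq_one
      rw [h] at h5
      calc α ^ q = α ^ (q - 1) * α := by
            rw [← pow_succ, Nat.sub_add_cancel (by omega)]
        _ = α := by rw [h5, one_mul]
    · right
      have h5 := hα.pow_eq_one
      rw [h, pow_succ] at h5
      exact eq_inv_of_mul_eq_one_left h5
  set s := α + α⁻¹ with hs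
  have hsq : s ^ q = s := by
    rw [hs, hq, pow_q_add, inv_pow, ← hq]
    rcases hqq with h | h
    · rw [h]
    · rw [h, inv_inv, add_comm]
  obtain ⟨s0, hs0⟩ := mem_range_of_pow i (x := s) (by rw [hF, hsq])
  have h2 : (2 : K) = 1 + 1⁻¹ := by norm_num
  have hs2 : s ≠ 2 := by
    intro h
    rw [h2] at h
    rcases add_inv_eq hα0 one_ne_zero h with h | h
    · exact hα1 h
    · exact hα1 (by simpa using h)
  let S : Matrix (Fin 2) (Fin 2) F := !![s0, 0; 0, 2]
  have hS : Sᵀ = S := by ext j k; fin_cases j <;> fin_cases k <;> rfl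
  have hSS : S * S = (s0 + 2) • S - (s0 * 2) • 1 := by
    ext j k
    fin_cases j <;> fin_cases k <;>
      simp [S, Matrix.mul_apply, Fin.sum_univ_two] <;> ring
  have hAm := comp_mem hS
  have e0 : S.map i *ᵥ ![1, 0] = s • ![1, 0] := by
    ext j; fin_cases j <;> simp [S, Matrix.mulVec, dotProduct, Fin.sum_univ_two, hs0]
  have e1 : S *ᵥ ![0, 1] = (1 + 1⁻¹ : F) • ![0, 1] := by
    ext j; fin_cases j <;> simp [S]; norm_num
  set A := SpLow.comp S with hA
  have f1 : A *ᵥ Sum.elim (![0, 1]) (-![0, 1]) =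
      Sum.elim (![0, 1]) (-![0, 1]) := by
    have := comp_mulVec (S := S) one_ne_zero e1
    simpa using this
  have f2 : A *ᵥ Sum.elim (0 : Fin 2 → F) (![0, 1]) =
      Sum.elim (0 : Fin 2 → F) (![0, 1]) - Sum.elim (![0, 1]) (-![0, 1]) := by
    rw [hA, SpLow.comp, fromBlocks_mulVec]
    simp only [Sum.elim_comp_inl, Sum.elim_comp_inr]
    ext j
    rcases j with j | j
    · fin_cases j <;> simp
    · fin_cases j <;> simp [S]; norm_num
  have f3 : ∀ k : ℕ, A ^ k *ᵥ Sum.elim (0 : Fin 2 → F) (![0, 1]) =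
      Sum.elim (0 : Fin 2 → F) (![0, 1]) - (k : F) • Sum.elim (![0, 1]) (-![0, 1]) := by
    intro k
    induction k with
    | zero => rw [pow_zero, Matrix.one_mulVec, Nat.cast_zero, zero_smul, sub_zero]
    | succ k ih =>
      rw [pow_succ', ← Matrix.mulVec_mulVec, ih, Matrix.mulVec_sub, Matrix.mulVec_smul, f1, f2,
        Nat.cast_succ, add_smul, one_smul]
      abel
  refine ⟨cl A hAm, ?_⟩
  apply Nat.dvd_antisymm
  · apply orderOf_dvd_of_pow_eq_one
    rw [cl_pow_eq_one]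
    refine ⟨1, pow_of_dvd (aeval_comp hSS) ?_⟩
    rw [← Polynomial.map_dvd_map' i, g4_map]
    have h4 := sub_pow_p (K := K) (p := p) M 1
    rw [one_pow] at h4
    have h5 : (X ^ M - C 1 : K[X]) ^ 2 ∣ (X ^ M - C 1) ^ p := pow_dvd_pow _ hp.out.two_le
    rw [h4] at h5
    have h6 : f s * f 2 ∣ (X ^ (M * p) - C 1 : K[X]) := by
      apply (isCoprime_f hs2).mul_dvd
      · exact (f_dvd_sq hα0 hα.pow_eq_one (one_pow _)).trans h5
      · rw [h2]
        exact (f_dvd_sq one_ne_zero (one_pow M) (one_pow _)).trans h5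
    rw [← g4_eq] at h6
    have e2 : i (s0 + 2) = s + 2 := by rw [map_add, hs0, map_ofNat]
    have e3 : i (s0 * 2 + 2) = s * 2 + 2 := by rw [map_add, map_mul, hs0, map_ofNat]
    rw [e2, e3, mul_comm p M]
    simpa using h6
  · have h5 := pow_orderOf_eq_one (cl A hAm)
    rw [cl_pow_eq_one] at h5
    obtain ⟨c, hc⟩ := h5
    set k := orderOf (cl A hAm) with hk
    have hc1 : c = 1 := by
      have h6 := pow_eq_of_eigen (RingHom.id F) (w := Sum.elim (![0, 1]) (-![0, 1]))
        (α := 1) (A := A) (by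
        intro h
        have := congrFun h (Sum.inl 1)
        simp at this) (by
        rw [one_smul]
        have : A.map (RingHom.id F) = A := by ext; rfl
        rw [this]; exact f1) hc
      simpa using h6.symm
    subst hc1
    have hαk : α ^ k = 1 := by
      have h6 : (SpLow.comp S).map i *ᵥ Sum.elim (![1, 0]) (-α • ![1, 0]) =
          α • Sum.elim (![1, 0]) (-α • ![1, 0]) := by
        rw [SpLow.comp_map]
        exact comp_mulVec hα0 e0
      have h7 := pow_eq_of_eigen i (w := Sum.elim (![1, 0]) (-α • ![1, 0])) (by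
        intro h
        have := congrFun h (Sum.inl 0)
        simp at this) h6 hc
      rw [h7, map_one]
    have hMk := hα.dvd_of_pow_eq_one _ hαk
    have hpk : p ∣ k := by
      have h6 := f3 k
      rw [hc, one_smul, Matrix.one_mulVec] at h6
      have h7 := congrFun h6 (Sum.inl 1)
      simp at h7
      exact (CharP.cast_eq_zero_iff F p k).1 h7
    have hcop : Nat.Coprime p M := by
      rw [Nat.Prime.coprime_iff_not_dvd hp.out, ← CharP.cast_eq_zero_iff K p M]
      exact hMK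
    exact hcop.mul_dvd_of_dvd_of_dvd hpk hMk

/-- A regular unipotent element. -/
def reg (F : Type*) [Field F] : Matrix (Fin 2 ⊕ Fin 2) (Fin 2 ⊕ Fin 2) F :=
  fromBlocks !![1, 1; 0, 1] !![0, 1; 0, 1] 0 !![1, 0; -1, 1]

omit [Fintype F] in
theorem reg_mem : reg F ∈ symplecticGroup (Fin 2) F := by
  rw [reg, SymplecticGroup.fromBlocks_mem_iff]
  refine ⟨?_, ?_, ?_⟩
  · simp
  · ext j k; fin_cases j <;> fin_cases k <;> simp [Matrix.mul_apply, Fin.sum_univ_two]
  · ext j k; fin_cases j <;> fin_cases k <;> simp [Matrix.mul_apply, Fin.sum_univ_two]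

omit [Fintype F] in
theorem reg_sub : reg F - 1 = fromBlocks !![0, 1; 0, 0] !![0, 1; 0, 1] 0 !![0, 0; -1, 0] := by
  rw [reg, ← fromBlocks_one, sub_eq_add_neg, fromBlocks_neg, fromBlocks_add]
  congr 1 <;>
  · ext j k
    fin_cases j <;> fin_cases k <;> simp

omit [Fintype F] in
theorem reg_two : (reg F - 1) ^ 2 = fromBlocks 0 !![-1, 1; -1, 0] 0 0 := by
  rw [reg_sub, pow_two, fromBlocks_multiply]
  congr 1 <;>
  · ext j k
    fin_cases j <;> fin_cases k <;> simp

omit [Fintype F] in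
theorem reg_four : (reg F - 1) ^ 4 = 0 := by
  rw [show 4 = 2 * 2 by norm_num, pow_mul, reg_two, pow_two, fromBlocks_multiply]
  simp

omit [Fintype F] in
theorem reg_three : (reg F - 1) ^ 3 = fromBlocks 0 !![-1, 0; 0, 0] 0 0 := by
  rw [pow_succ, reg_two, reg_sub, fromBlocks_multiply]
  congr 1 <;>
  · ext j k
    fin_cases j <;> fin_cases k <;> simp

omit [Fintype F] in
theorem exists_four (h2 : CharP F 2) : ∃ x : Cfsg.PSp 2 F, orderOf x = 4 := by
  refine ⟨cl (reg F) reg_mem, ?_⟩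
  have hf2 : Fact (Nat.Prime 2) := ⟨Nat.prime_two⟩
  have h4 : 4 = 2 ^ (1 + 1) := by norm_num
  rw [h4]
  apply orderOf_eq_prime_pow
  · rw [cl_pow_eq_one]
    rintro ⟨c, hc⟩
    have h5 : (reg F - 1) ^ 2 = reg F ^ 2 - 1 := by
      have e : (X - 1 : F[X]) ^ 2 = X ^ 2 - 1 := by
        have := CharTwo.two_eq_zero (R := F[X])
        linear_combination (1 - X) * this
      have := congrArg (fun P => aeval (reg F) P) e
      simpa using this
    rw [reg_two, pow_one] at *
    rw [hc] at h5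
    have h6 := congrFun (congrFun h5 (Sum.inl 0)) (Sum.inr 1)
    simp at h6
  · rw [cl_pow_eq_one]
    refine ⟨1, pow_of_dvd (P := (X - 1) ^ 4) (by simp [reg_four]) ?_⟩
    have := sub_pow_pp (K := F) (p := 2) 1 2 1
    simp only [one_pow, pow_one, C_1, one_mul] at this
    rw [C_1, show 1 + 1 = 2 by norm_num, ← this]
    norm_num

omit [Fintype F] in
theorem exists_nine (h3 : CharP F 3) : ∃ x : Cfsg.PSp 2 F, orderOf x = 9 := by
  refine ⟨cl (reg F) reg_mem, ?_⟩
  have hf3 : Fact (Nat.Prime 3) := ⟨Nat.prime_three⟩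
  have h4 : 9 = 3 ^ (1 + 1) := by norm_num
  rw [h4]
  apply orderOf_eq_prime_pow
  · rw [cl_pow_eq_one]
    rintro ⟨c, hc⟩
    have h5 : (reg F - 1) ^ 3 = reg F ^ 3 - 1 := by
      have e : (X - 1 : F[X]) ^ 3 = X ^ 3 - 1 := by
        have := sub_pow_p (K := F) (p := 3) 1 1
        simpa using this
      have := congrArg (fun P => aeval (reg F) P) e
      simpa using this
    rw [pow_one] at hc
    rw [reg_three, hc] at h5
    have h6 := congrFun (congrFun h5 (Sum.inl 0)) (Sum.inr 0)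
    simp at h6
  · rw [cl_pow_eq_one]
    refine ⟨1, pow_of_dvd (P := (X - 1) ^ 4) (by simp [reg_four]) ?_⟩
    have := sub_pow_pp (K := F) (p := 3) 1 2 1
    simp only [one_pow, pow_one, C_1, one_mul] at this
    rw [C_1, show 1 + 1 = 2 by norm_num, ← this]
    exact pow_dvd_pow _ (by norm_num)

/-- **The spectrum of `PSp₄(q)`.** -/
theorem exists_iff (hn : n ≠ 0) (hF : Fintype.card F = p ^ n) (h3 : 3 ≤ p ^ n) (m : ℕ) :
    (∃ x : Cfsg.PSp 2 F, orderOf x = m) ↔ Om p (p ^ n) m := by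
  constructor
  · rintro ⟨x, rfl⟩
    exact upper hn hF x
  · rintro (h | h | h | h | ⟨h2, h⟩ | ⟨h2, h⟩)
    · obtain ⟨x, hx⟩ := exists_mixed hn hF h3 (Or.inl rfl)
      exact exists_of_dvd hx (Nat.mul_pos hp.out.pos (by omega)) h
    · obtain ⟨x, hx⟩ := exists_mixed hn hF h3 (Or.inr rfl)
      exact exists_of_dvd hx (Nat.mul_pos hp.out.pos (by omega)) h
    · obtain ⟨x, hx⟩ := exists_conj hn hF h3 (Or.inl rfl)
      refine exists_of_dvd hx ?_ h
      have h1 := mul_div_gcd_sub (q := p ^ n) (by omega)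
      have h2 : 0 < (p ^ n) ^ 2 - 1 := by
        have : (p ^ n) ^ 2 ≥ 3 ^ 2 := Nat.pow_le_pow_left h3 2
        omega
      rw [← h1] at h2
      exact Nat.pos_of_mul_pos_right h2
    · obtain ⟨x, hx⟩ := exists_conj hn hF h3 (Or.inr rfl)
      refine exists_of_dvd hx ?_ h
      have h1 := mul_div_gcd_add (q := p ^ n) (by omega)
      have h2 : 0 < (p ^ n) ^ 2 + 1 := by omega
      rw [← h1] at h2
      exact Nat.pos_of_mul_pos_right h2
    · subst h2
      obtain ⟨x, hx⟩ := exists_nine (F := F) inferInstance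
      exact exists_of_dvd hx (by norm_num) h
    · subst h2
      obtain ⟨x, hx⟩ := exists_four (F := F) inferInstance
      exact exists_of_dvd hx (by norm_num) h

end finite

/-- **The spectrum of `PSp₄(q)`**, `q = |F| ≥ 3`, `p = ringChar F`. -/
theorem mem_range_iff [Fintype F] (h3 : 3 ≤ Fintype.card F) (m : ℕ) :
    m ∈ Set.range (orderOf : Cfsg.PSp 2 F → ℕ) ↔ Om (ringChar F) (Fintype.card F) m := by
  obtain ⟨n, hp, hcard⟩ := FiniteField.card F (ringChar F)
  have : Fact (ringChar F).Prime := ⟨hp⟩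
  rw [hcard]
  rw [hcard] at h3
  exact exists_iff n.2.ne' hcard h3 m

end Cfsg.Agent.H374.SpFour
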