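import Mathlib
import Cfsg.Agent.ChevalleyStructure.Sparse
import Cfsg.Agent.ChevalleyStructure.Elts
import Cfsg.Agent.S1028

/-!
# 2-elements of order at least 8 (16) in the groups of exceptional Lie type of characteristic two
-/

set_option autoImplicit false

namespace Cfsg.Agent.H374.EightExcTwo

open Cfsg Cfsg.Lie Cfsg.Lie.ChevalleyDatum
open Cfsg.Agent.ChevalleyStructure Cfsg.Agent.ChevalleyStructure.Elts Cfsg.Agent.ChevalleyStructure.Sparse

/-- exponents: everything has parameter `0` or `1`; coefficients modulo two -/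
def O2 : Ops Unit where
  add := fun _ _ => ()
  beq := fun _ _ => true
  nrm := fun c => c % 2

noncomputable def V2 (F : Type*) [Field F] [CharP F 2] : Ev O2 F where
  ev := fun _ => 1
  ev_add := fun _ _ => (one_mul _).symm
  ev_beq := fun _ _ _ => rfl
  nrm_eq := fun c => by
    show ((c % 2 : ℤ) : F) = _
    have h := Int.emod_add_mul_ediv c 2
    have h2 : (2 : F) = 0 := by exact_mod_cast CharP.cast_eq_zero F 2
    conv_rhs => rw [← h]
    push_cast
    rw [h2, zero_mul, add_zero]

/-- the word of the simple letters `x_r(1)` -/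
def lets (l : List ℕ) : List (Letter Unit) := l.map fun r => ⟨r, (), 1⟩

/-- the coefficient of `e_n` (integral, to be reduced modulo two) -/
def coef (l : List (Term Unit)) (n : ℕ) : ℤ := (l.map fun x => if x.j = n then x.c else 0).sum

theorem evalV_eq {F : Type*} [Field F] [CharP F 2] (l : List (Term Unit)) (n : ℕ) :
    evalV (V2 F) l n = ((coef l n : ℤ) : F) := by
  induction l with
  | nil => simp [evalV_nil, coef]
  | cons x l ih =>
    rw [evalV_cons, ih]
    have : coef (x :: l) n = (if x.j = n then x.c else 0) + coef l n := by simp [coef]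
    rw [this]
    push_cast
    unfold evalTerm
    split_ifs
    · show (x.c : F) * 1 + _ = _
      rw [mul_one]
    · simp

/-- the word repeated `k` times -/
def rep {α : Type*} (w : List α) : ℕ → List α
  | 0 => []
  | k + 1 => w ++ rep w k

/-- `w^k` moves the basis vector number `D.rank + a`: the coefficient of `e_{D.rank + b}` is odd, `a ≠ b` -/
noncomputable def chk (D : ChevalleyDatum) (w : List ℕ) (k a b : ℕ) : Bool :=
  (coef (actWord D O2 (lets (rep w k)) [⟨D.rank + a, (), 1⟩]) (D.rank + b)) % 2 == 1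

def rowsOk (D : ChevalleyDatum) (w : List ℕ) : Bool :=
  w.all fun r => decide (goodRow D r) && decide (D.IsPosRoot r)

variable {D : ChevalleyDatum} {F : Type*} [Field F]

theorem toWord_rep [CharP F 2] (w : List ℕ) (k : ℕ) :
    toWord (V2 F) (lets (rep w k)) = rep (w.map fun r => (r, (1 : F))) k := by
  have h : ∀ w : List ℕ, toWord (V2 F) (lets w) = w.map fun r => (r, (1 : F)) := by
    intro w
    simp only [toWord, lets, List.map_map]
    congr 1
    funext r
    show (r, ((1 : ℤ) : F) * 1) = (r, 1)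
    simp
  rw [h]
  induction k with
  | zero => rfl
  | succ k ih => simp only [rep, List.map_append, ih]

theorem wordMat_rep (w : List (ℕ × F)) (k : ℕ) : D.wordMat F (rep w k) = (D.wordMat F w) ^ k := by
  induction k with
  | zero => simp [rep, ChevalleyDatum.wordMat]
  | succ k ih =>
    rw [pow_succ', ← ih]
    simp [rep, ChevalleyDatum.wordMat]

theorem pow_ne_one [CharP F 2] {w : List ℕ} {k a b : ℕ} (hr : rowsOk D w = true) (hc : chk D w k a b = true)
    (hab : a ≠ b) (hb : b < D.nroots) (g : GL D.Idx F)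
    (hg : (g : Matrix D.Idx D.Idx F) = D.wordMat F (w.map fun r => (r, 1))) : g ^ k ≠ 1 := by
  intro h
  have h1 : (D.wordMat F (w.map fun r => (r, (1 : F)))) ^ k = 1 := by
    rw [← hg, ← Units.val_pow_eq_pow_val, h]; rfl
  have hrow : ∀ L ∈ lets (rep w k), goodRow D L.r := by
    have h2 : ∀ r ∈ rep w k, r ∈ w := by
      clear hc h h1
      induction k with
      | zero => intro r hr; simp [rep] at hr
      | succ k ih =>
        intro r hr
        simp only [rep, List.mem_append] at hr
        rcases hr with h | h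
        · exact h
        · exact ih r h
    intro L hL
    simp only [lets, List.mem_map] at hL
    obtain ⟨r, hr', rfl⟩ := hL
    have h3 := List.all_eq_true.1 hr r (h2 r hr')
    rw [Bool.and_eq_true] at h3
    exact of_decide_eq_true h3.1
  have h2 := actWord_sound D (V2 F) (lets (rep w k)) hrow [⟨D.rank + a, (), 1⟩]
  rw [toWord_rep, wordMat_rep, h1, Matrix.one_mulVec] at h2
  have h3 := congrFun h2 (Sum.inr ⟨b, hb⟩)
  simp only [Sparse.vec, evalV_eq, idxNat_inr] at h3
  have h4 : coef [(⟨D.rank + a, (), 1⟩ : Term Unit)] (D.rank + b) = 0 := by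
    simp [coef, hab]
  rw [h4, Int.cast_zero] at h3
  rw [chk, beq_iff_eq] at hc
  have h5 : (2 : ℤ) ∣ coef (actWord D O2 (lets (rep w k)) [⟨D.rank + a, (), 1⟩]) (D.rank + b) :=
    (CharP.intCast_eq_zero_iff F 2 _).1 h3.symm
  omega

/-- the product of `x_r(1)`, `r ∈ w` -/
noncomputable def el (hD : InList D) (F : Type*) [Field F] (w : List ℕ) : GL D.Idx F :=
  wordG hD (w.map fun r => (r, (1 : F)))

theorem coe_el (hD : InList D) (w : List ℕ) :
    ((el hD F w : GL D.Idx F) : Matrix D.Idx D.Idx F) = D.wordMat F (w.map fun r => (r, 1)) := coe_wordG hD _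

theorem el_cons (hD : InList D) (r : ℕ) (w : List ℕ) : el hD F (r :: w) = xG hD r 1 * el hD F w :=
  wordG_cons hD _ _

theorem el_nil (hD : InList D) : el hD F [] = 1 := wordG_nil hD

theorem el_mem_pos (hD : InList D) {w : List ℕ} (hr : rowsOk D w = true) : el hD F w ∈ D.posUnipotent F := by
  induction w with
  | nil => rw [el_nil]; exact one_mem _
  | cons r w ih =>
    simp only [rowsOk, List.all_cons, Bool.and_eq_true] at hr
    rw [el_cons]
    refine mul_mem (xG_mem_posUnipotent hD (of_decide_eq_true hr.1.2) _) (ih ?_)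
    simp only [rowsOk]
    exact hr.2

/-- elements of `U` have order a power of two -/
theorem orderOf_pos (hD : InList D) [CharP F 2] {g : GL D.Idx F} (hg : g ∈ D.posUnipotent F) :
    ∃ k, orderOf g = 2 ^ k := by
  have h1 := S1028.result D hD g hg
  have h2 : ((g : Matrix D.Idx D.Idx F) - 1) ^ (2 ^ (D.rank + D.nroots)) = 0 :=
    pow_eq_zero_of_le (Nat.lt_two_pow_self).le h1
  have : CharP (Matrix D.Idx D.Idx F) 2 := by
    have hne : Nonempty D.Idx := by
      by_contra hne
      rw [not_nonempty_iff] at hne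
      simp only [InList, List.mem_cons, List.not_mem_nil, or_false] at hD
      rcases hD with rfl | rfl | rfl | rfl | rfl | rfl | rfl
      all_goals exact hne.false (Sum.inr ⟨0, by decide +kernel⟩)
    exact Matrix.charP (n := D.Idx) 2
  have h3 : ((g : Matrix D.Idx D.Idx F) - 1) ^ (2 ^ (D.rank + D.nroots)) =
      (g : Matrix D.Idx D.Idx F) ^ (2 ^ (D.rank + D.nroots)) - 1 ^ (2 ^ (D.rank + D.nroots)) :=
    sub_pow_char_pow_of_commute _ _ (Commute.one_right _)
  rw [h3, one_pow, sub_eq_zero] at h2
  have h4 : g ^ (2 ^ (D.rank + D.nroots)) = 1 := by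
    apply Units.ext
    rw [Units.val_pow_eq_pow_val, h2]; rfl
  obtain ⟨k, -, hk⟩ := (Nat.dvd_prime_pow Nat.prime_two).1 (orderOf_dvd_of_pow_eq_one h4)
  exact ⟨k, hk⟩

/-- **an element of order 8** -/
theorem exists_eight (hD : InList D) [CharP F 2] {w : List ℕ} {a b : ℕ} (hr : rowsOk D w = true)
    (hc : chk D w 4 a b = true) (hab : a ≠ b) (hb : b < D.nroots) (G : Subgroup (GL D.Idx F))
    (hG : el hD F w ∈ G) : ∃ x : G, orderOf x = 8 := by
  obtain ⟨k, hk⟩ := orderOf_pos (F := F) hD (el_mem_pos hD hr)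
  have h4 := pow_ne_one hr hc hab hb (el hD F w) (coe_el hD w)
  have hk3 : 3 ≤ k := by
    by_contra hlt
    apply h4
    have : orderOf (el hD F w) ∣ 4 := by
      rw [hk]
      exact pow_dvd_pow 2 (show k ≤ 2 by omega)
    exact orderOf_dvd_iff_pow_eq_one.1 this
  refine ⟨(⟨el hD F w, hG⟩ : G) ^ 2 ^ (k - 3), ?_⟩
  have h5 : orderOf (⟨el hD F w, hG⟩ : G) = 2 ^ k := by rw [Subgroup.orderOf_mk, hk]
  rw [orderOf_pow_of_dvd (pow_ne_zero _ two_ne_zero) (by rw [h5]; exact pow_dvd_pow 2 (by omega)), h5,
    Nat.pow_div (by omega) (by norm_num), show k - (k - 3) = 3 by omega]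

end Cfsg.Agent.H374.EightExcTwo
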