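import Mathlib
import Cfsg.Agent.S3444

/-!
# The split extension of a module by a group and its element orders

`Aff ρ = W ⋊ A` for a representation `ρ` of `A` on `W`.
-/

set_option autoImplicit false

namespace Cfsg.Agent.H374

/-- The split extension `W ⋊ A`. -/
@[ext]
structure Aff {K A W : Type*} [Field K] [Group A] [AddCommGroup W] [Module K W]
    (ρ : A →* Module.End K W) where
  /-- the translation part -/
  v : W
  /-- the linear part -/
  a : A

namespace Aff

variable {K A W : Type*} [Field K] [Group A] [AddCommGroup W] [Module K W]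
  {ρ : A →* Module.End K W}

instance instMulAff : Mul (Aff ρ) := ⟨fun x y => ⟨x.v + ρ x.a y.v, x.a * y.a⟩⟩
instance instOneAff : One (Aff ρ) := ⟨⟨0, 1⟩⟩
instance instInvAff : Inv (Aff ρ) := ⟨fun x => ⟨-(ρ x.a⁻¹ x.v), x.a⁻¹⟩⟩

theorem mul_v (x y : Aff ρ) : (x * y).v = x.v + ρ x.a y.v := rfl
theorem mul_a (x y : Aff ρ) : (x * y).a = x.a * y.a := rfl
theorem one_v : (1 : Aff ρ).v = 0 := rfl
theorem one_a : (1 : Aff ρ).a = 1 := rfl
theorem inv_v (x : Aff ρ) : (x⁻¹).v = -(ρ x.a⁻¹ x.v) := rfl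
theorem inv_a (x : Aff ρ) : (x⁻¹).a = x.a⁻¹ := rfl

theorem rho_inv_apply (a : A) (w : W) : ρ a⁻¹ (ρ a w) = w := by
  rw [← Module.End.mul_apply, ← map_mul, inv_mul_cancel, map_one, Module.End.one_apply]

theorem rho_apply_inv (a : A) (w : W) : ρ a (ρ a⁻¹ w) = w := by
  rw [← Module.End.mul_apply, ← map_mul, mul_inv_cancel, map_one, Module.End.one_apply]

instance instGroupAff : Group (Aff ρ) :=
  Group.ofLeftAxioms
    (fun x y z => by
      ext
      · simp only [mul_v, mul_a, map_add, map_mul, Module.End.mul_apply, add_assoc]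
      · simp only [mul_a, mul_assoc])
    (fun x => by
      ext
      · simp only [mul_v, one_v, one_a, map_one, Module.End.one_apply, zero_add]
      · simp only [mul_a, one_a, one_mul])
    (fun x => by
      ext
      · simp only [mul_v, inv_v, inv_a, one_v, neg_add_cancel]
      · simp only [mul_a, inv_a, one_a, inv_mul_cancel])

/-- The projection. -/
def proj (ρ : A →* Module.End K W) : Aff ρ →* A where
  toFun x := x.a
  map_one' := rfl
  map_mul' _ _ := rfl

theorem proj_apply (x : Aff ρ) : proj ρ x = x.a := rfl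

/-- `Aff ρ ≃ W × A`. -/
def equivProd (ρ : A →* Module.End K W) : Aff ρ ≃ W × A where
  toFun x := (x.v, x.a)
  invFun y := ⟨y.1, y.2⟩
  left_inv _ := rfl
  right_inv _ := rfl

instance instFiniteAff [Finite W] [Finite A] : Finite (Aff ρ) := Finite.of_equiv _ (equivProd ρ).symm

/-- `1 + L + ⋯ + L^(k-1)`. -/
def T (k : ℕ) (L : Module.End K W) : Module.End K W := ∑ i ∈ Finset.range k, L ^ i

theorem T_mul (k : ℕ) (L : Module.End K W) : T k L * (L - 1) = L ^ k - 1 := geom_sum_mul L k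

theorem mul_T (k : ℕ) (L : Module.End K W) : (L - 1) * T k L = L ^ k - 1 := mul_geom_sum L k

theorem pow_eq (x : Aff ρ) (k : ℕ) : x ^ k = ⟨T k (ρ x.a) x.v, x.a ^ k⟩ := by
  induction k with
  | zero =>
    ext
    · simp [T, one_v]
    · simp [one_a]
  | succ k ih =>
    rw [pow_succ, ih]
    ext
    · simp only [mul_v, T, Finset.sum_range_succ, LinearMap.add_apply, map_pow]
    · simp only [mul_a, pow_succ]

/-- A fixed vector: `T` is multiplication by `k`. -/
theorem T_of_fixed {k : ℕ} {L : Module.End K W} {w : W} (h : L w = w) : T k L w = (k : K) • w := by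
  have h1 : ∀ i : ℕ, (L ^ i) w = w := by
    intro i
    induction i with
    | zero => simp
    | succ i ih => rw [pow_succ, Module.End.mul_apply, h, ih]
  rw [T, LinearMap.sum_apply, Finset.sum_congr rfl fun i _ => h1 i, Finset.sum_const,
    Finset.card_range, Nat.cast_smul_eq_nsmul]

/-- The kernel of the projection is abelian. -/
theorem ker_comm (x y : Aff ρ) (hx : x ∈ (proj ρ).ker) (hy : y ∈ (proj ρ).ker) :
    x * y = y * x := by
  rw [MonoidHom.mem_ker, proj_apply] at hx hy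
  ext
  · simp only [mul_v, hx, hy, map_one, Module.End.one_apply, add_comm]
  · simp only [mul_a, hx, hy]

theorem ker_solvable : Group.IsSolvable (proj ρ).ker := by
  have : ∀ x y : (proj ρ).ker, x * y = y * x := fun x y =>
    Subtype.ext (ker_comm x.1 y.1 x.2 y.2)
  exact Group.isSolvable_of_comm this

theorem ker_ne_bot [Nontrivial W] : (proj ρ).ker ≠ ⊥ := by
  obtain ⟨w, hw⟩ := exists_ne (0 : W)
  intro h
  have h1 : (⟨w, 1⟩ : Aff ρ) ∈ (proj ρ).ker := by
    rw [MonoidHom.mem_ker]; rfl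
  rw [h, Subgroup.mem_bot] at h1
  exact hw (congrArg Aff.v h1)

/-- The element orders of `W ⋊ A`. -/
theorem orderOf_cases {p : ℕ} [hp : Fact p.Prime] [CharP K p] (x : Aff ρ) :
    (T (orderOf x.a) (ρ x.a) x.v = 0 ∧ orderOf x = orderOf x.a) ∨
      (T (orderOf x.a) (ρ x.a) x.v ≠ 0 ∧ orderOf x.a ≠ 0 → orderOf x = p * orderOf x.a) ∧
        (T (orderOf x.a) (ρ x.a) x.v ≠ 0) := by
  by_cases h : T (orderOf x.a) (ρ x.a) x.v = 0
  · left
    refine ⟨h, Nat.dvd_antisymm ?_ (orderOf_map_dvd (proj ρ) x)⟩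
    apply orderOf_dvd_of_pow_eq_one
    rw [pow_eq, h, pow_orderOf_eq_one]
    rfl
  · right
    refine ⟨fun h0 => ?_, h⟩
    have h1 : x ^ orderOf x.a = ⟨T (orderOf x.a) (ρ x.a) x.v, 1⟩ := by
      rw [pow_eq, pow_orderOf_eq_one]
    have h2 : orderOf (x ^ orderOf x.a) = p := by
      apply orderOf_eq_prime
      · rw [h1, pow_eq]
        ext
        · have : T p (1 : Module.End K W) (T (orderOf x.a) (ρ x.a) x.v) = 0 := by
            rw [T_of_fixed (by rfl), CharP.cast_eq_zero, zero_smul]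
          simpa only [map_one, one_v] using this
        · simp only [one_pow, one_a]
      · rw [h1]
        intro h3
        exact h (congrArg Aff.v h3)
    have h3 : orderOf x.a ∣ orderOf x := orderOf_map_dvd (proj ρ) x
    rw [orderOf_pow_of_dvd h0.2 h3] at h2
    rw [← h2]
    exact (Nat.div_mul_cancel h3).symm

/-- The spectrum of `W ⋊ A`. -/
theorem exists_orderOf_iff [Finite A] {p : ℕ} [hp : Fact p.Prime] [CharP K p] (m : ℕ) :
    (∃ x : Aff ρ, orderOf x = m) ↔
      ∃ a : A, orderOf a = m ∨ (p * orderOf a = m ∧ T (orderOf a) (ρ a) ≠ 0) := by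
  constructor
  · rintro ⟨x, rfl⟩
    rcases orderOf_cases (p := p) x with ⟨-, h⟩ | ⟨h, h0⟩
    · exact ⟨x.a, Or.inl h.symm⟩
    · refine ⟨x.a, Or.inr ⟨(h ⟨h0, (orderOf_pos _).ne'⟩).symm, ?_⟩⟩
      intro h1
      rw [h1] at h0
      exact h0 rfl
  · rintro ⟨a, rfl | ⟨rfl, h⟩⟩
    · refine ⟨⟨0, a⟩, ?_⟩
      rcases orderOf_cases (p := p) (⟨0, a⟩ : Aff ρ) with ⟨-, h⟩ | ⟨-, h0⟩
      · exact h
      · exact absurd (map_zero _) h0
    · obtain ⟨w, hw⟩ : ∃ w, T (orderOf a) (ρ a) w ≠ 0 := by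
        by_contra hcon
        push Not at hcon
        exact h (LinearMap.ext hcon)
      refine ⟨⟨w, a⟩, ?_⟩
      rcases orderOf_cases (p := p) (⟨w, a⟩ : Aff ρ) with ⟨h1, -⟩ | ⟨h1, -⟩
      · exact absurd h1 hw
      · exact h1 ⟨hw, (orderOf_pos _).ne'⟩

/-- From `W ⋊ A` isospectral to `G` to arbitrarily large isospectral groups. -/
theorem unbounded [Finite A] [Finite W] [Nontrivial W] {G : Type*} [Group G]
    {p : ℕ} [hp : Fact p.Prime] [CharP K p]
    (h : ∀ m : ℕ, (∃ g : G, orderOf g = m) ↔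
      ∃ a : A, orderOf a = m ∨ (p * orderOf a = m ∧ T (orderOf a) (ρ a) ≠ 0)) (N : ℕ) :
    ∃ (H : Type) (_ : Group H) (_ : Fintype H), N < Fintype.card H ∧
      Set.range (orderOf : H → ℕ) = Set.range (orderOf : G → ℕ) := by
  obtain ⟨H, i1, i2, h1, h2⟩ := Cfsg.Agent.S3444.result (G := Aff ρ) (proj ρ).ker ker_ne_bot
    ker_solvable N
  refine ⟨H, i1, i2, h1, h2.trans ?_⟩
  ext m
  rw [Set.mem_range, Set.mem_range, exists_orderOf_iff (p := p), h]

end Aff

end Cfsg.Agent.H374
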