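import Mathlib
import Cfsg.Agent.H374.SpLow
import Cfsg.Agent.H374.Aff

/-!
# `2 × 2` matrices of determinant one over a finite field, and the action `X ↦ g X g*`
-/

set_option autoImplicit false

namespace Cfsg.Agent.H374.Two

open Polynomial Matrix Quad SpChar SpLow

section general

variable {K : Type*} [Field K] {p : ℕ} [hp : Fact p.Prime] [CharP K p]

theorem div_gcd_sub {Q : ℕ} : (Q - 1) / Nat.gcd 2 (Q - 1) * Nat.gcd 2 (Q - 1) = Q - 1 :=
  Nat.div_mul_cancel (Nat.gcd_dvd_right 2 (Q - 1))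

theorem div_gcd_add {Q : ℕ} (h : 1 ≤ Q) :
    (Q + 1) / Nat.gcd 2 (Q - 1) * Nat.gcd 2 (Q - 1) = Q + 1 := by
  apply Nat.div_mul_cancel
  have : Q + 1 = (Q - 1) + 2 := by omega
  rw [this]
  exact dvd_add (Nat.gcd_dvd_right 2 (Q - 1)) (Nat.gcd_dvd_left 2 (Q - 1))

/-- The possible orders in `PSL₂`. -/
theorem quad_dvd [IsAlgClosed K] {k : ℕ} {t : K} (ht : t ^ (p ^ k) = t) :
    ∃ (m : ℕ) (η : K), (m = (p ^ k - 1) / Nat.gcd 2 (p ^ k - 1) ∨
      m = (p ^ k + 1) / Nat.gcd 2 (p ^ k - 1) ∨ (m = p ∧ f t = (X - C η) ^ 2)) ∧ η ^ 2 = 1 ∧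
      f t ∣ X ^ m - C η := by
  have hQ : 1 ≤ p ^ k := Nat.one_le_pow _ _ hp.out.pos
  obtain ⟨α, hα0, hα⟩ := exists_root t
  have htq : t ^ (p ^ k) = α ^ (p ^ k) + (α ^ (p ^ k))⁻¹ := by
    rw [hα, pow_q_add, inv_pow]
  have hα1 : α ^ (p ^ k - 1) = 1 ∨ α ^ (p ^ k + 1) = 1 := by
    apply pow_of_trace hQ hα0
    apply add_inv_eq (pow_ne_zero _ hα0) hα0
    rw [← htq, ht, hα]
  by_cases hinv : α = α⁻¹
  · have hα2 := sq_eq_one_of_eq_inv hα0 hinv
    have hf : f t = (X - C α) ^ 2 := by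
      rw [hα, f_eq hα0, ← hinv]; ring
    refine ⟨p, α, Or.inr (Or.inr ⟨rfl, hf⟩), hα2, ?_⟩
    have h3 := sub_pow_p (K := K) (p := p) 1 α
    rw [pow_one, one_mul, eta_pow_p hα2] at h3
    rw [← h3, hf]
    exact pow_dvd_pow _ hp.out.two_le
  · rcases hα1 with h | h
    · have h5 : (α ^ ((p ^ k - 1) / Nat.gcd 2 (p ^ k - 1))) ^ 2 = 1 := by
        apply sq_of_gcd (q := p ^ k)
        rw [← pow_mul, div_gcd_sub, h]
      refine ⟨_, _, Or.inl rfl, h5, ?_⟩
      rw [hα]
      exact f_dvd hα0 hinv rfl h5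
    · have h5 : (α ^ ((p ^ k + 1) / Nat.gcd 2 (p ^ k - 1))) ^ 2 = 1 := by
        apply sq_of_gcd (q := p ^ k)
        rw [← pow_mul, div_gcd_add hQ, h]
      refine ⟨_, _, Or.inr (Or.inl rfl), h5, ?_⟩
      rw [hα]
      exact f_dvd hα0 hinv rfl h5

end general

section two

variable {K : Type*} [Field K]

theorem aeval_f (g : Matrix (Fin 2) (Fin 2) K) (hg : g.det = 1) : aeval g (f g.trace) = 0 := by
  have h := Matrix.aeval_self_charpoly g
  rw [Matrix.charpoly_fin_two, hg, C_1] at h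
  exact h

theorem sq_eq (g : Matrix (Fin 2) (Fin 2) K) (hg : g.det = 1) : g * g = g.trace • g - 1 := by
  have h := aeval_f g hg
  simp only [f, map_add, map_sub, map_mul, map_pow, aeval_X, aeval_C, map_one,
    Algebra.algebraMap_eq_smul_one, Matrix.smul_mul, Matrix.one_mul] at h
  rw [pow_two] at h
  have h2 : g * g - g.trace • g + 1 - 1 = 0 - 1 := by rw [h]
  rw [add_sub_cancel_right, sub_eq_iff_eq_add] at h2
  rw [h2]; abel

/-- The orders of the elements of `SL₂` modulo scalars. -/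
theorem exists_pow_two {p : ℕ} [hp : Fact p.Prime] [CharP K p] {k : ℕ}
    (g : Matrix (Fin 2) (Fin 2) K) (hg : g.det = 1) (ht : g.trace ^ (p ^ k) = g.trace) :
    ∃ (m : ℕ) (η : K), (m = (p ^ k - 1) / Nat.gcd 2 (p ^ k - 1) ∨
      m = (p ^ k + 1) / Nat.gcd 2 (p ^ k - 1) ∨ (m = p ∧ (g - η • 1) ^ 2 = 0)) ∧ η ^ 2 = 1 ∧
      g ^ m = η • 1 := by
  let L := AlgebraicClosure K
  let i : K →+* L := algebraMap K L
  have hL : CharP L p := charP_of_injective_ringHom i.injective p
  obtain ⟨m, η, hm, hη, hd⟩ := quad_dvd (p := p) (k := k) (t := i g.trace) (by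
    rw [← map_pow, ht])
  obtain ⟨c, hc⟩ : ∃ c : K, i c = η := by
    have h1 : (η - 1) * (η + 1) = 0 := by linear_combination hη
    rcases mul_eq_zero.1 h1 with h2 | h2
    · exact ⟨1, by rw [map_one]; exact (sub_eq_zero.1 h2).symm⟩
    · exact ⟨-1, by rw [map_neg, map_one]; exact (eq_neg_of_add_eq_zero_left h2).symm⟩
  have hc2 : c ^ 2 = 1 := by
    apply i.injective
    rw [map_pow, hc, hη, map_one]
  have hd' : f g.trace ∣ X ^ m - C c := by
    rw [← Polynomial.map_dvd_map' i, f_map]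
    simpa [hc] using hd
  refine ⟨m, c, ?_, hc2, pow_of_dvd (aeval_f g hg) hd'⟩
  rcases hm with h | h | ⟨h, h'⟩
  · exact Or.inl h
  · exact Or.inr (Or.inl h)
  · refine Or.inr (Or.inr ⟨h, ?_⟩)
    have h3 : f g.trace = (X - C c) ^ 2 := by
      apply Polynomial.map_injective i i.injective
      rw [f_map, h', Polynomial.map_pow, Polynomial.map_sub, map_X, map_C, hc]
    have h4 := aeval_f g hg
    rw [h3, map_pow, map_sub, aeval_X, aeval_C, Algebra.algebraMap_eq_smul_one] at h4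
    exact h4

/-- `g* = (ḡ)ᵀ`. -/
def st (bar : K →+* K) (g : Matrix (Fin 2) (Fin 2) K) : Matrix (Fin 2) (Fin 2) K := (g.map bar)ᵀ

variable (bar : K →+* K)

theorem st_mul (g h : Matrix (Fin 2) (Fin 2) K) : st bar (g * h) = st bar h * st bar g := by
  rw [st, Matrix.map_mul, Matrix.transpose_mul, st, st]

theorem st_one : st bar 1 = 1 := by
  rw [st, Matrix.map_one _ (map_zero bar) (map_one bar), Matrix.transpose_one]

theorem st_det (g : Matrix (Fin 2) (Fin 2) K) : (st bar g).det = bar g.det := by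
  rw [st, Matrix.det_transpose]
  exact (RingHom.map_det bar g).symm

theorem st_trace (g : Matrix (Fin 2) (Fin 2) K) : (st bar g).trace = bar g.trace := by
  rw [st, Matrix.trace_transpose, Matrix.trace_fin_two, Matrix.trace_fin_two]
  simp

/-- `X ↦ g X g*` has no fixed points if the trace of `g` is not fixed by `bar`. -/
theorem fixed_zero {g Y : Matrix (Fin 2) (Fin 2) K} (hg : g.det = 1)
    (ht : bar g.trace ≠ g.trace) (h : g * Y * st bar g = Y) : Y = 0 := by
  set s := st bar g with hs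
  have hsd : s.det = 1 := by rw [hs, st_det, hg, map_one]
  have hst : s.trace = bar g.trace := st_trace bar g
  have h1 := sq_eq g hg
  have h2 := sq_eq s hsd
  rw [hst] at h2
  set t := g.trace
  set t' := bar t
  -- `h = s⁻¹`
  have hh : s * (t' • 1 - s) = 1 := by
    rw [Matrix.mul_sub, h2, Matrix.mul_smul, Matrix.mul_one]; abel
  have hh2 : (t' • 1 - s) * (t' • 1 - s) = t' • (t' • 1 - s) - 1 := by
    rw [Matrix.mul_sub, Matrix.mul_smul, Matrix.mul_one, Matrix.sub_mul, h2, Matrix.smul_mul,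
      Matrix.one_mul]
    abel
  have h3 : g * Y = Y * (t' • 1 - s) := by
    calc g * Y = g * Y * (s * (t' • 1 - s)) := by rw [hh, Matrix.mul_one]
      _ = (g * Y * s) * (t' • 1 - s) := by simp only [Matrix.mul_assoc]
      _ = Y * (t' • 1 - s) := by rw [h]
  have h4 : g * g * Y = Y * ((t' • 1 - s) * (t' • 1 - s)) := by
    rw [Matrix.mul_assoc, h3, ← Matrix.mul_assoc, h3, Matrix.mul_assoc]
  rw [h1, hh2, Matrix.sub_mul, Matrix.mul_sub, Matrix.mul_smul, ← h3, Matrix.smul_mul,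
    Matrix.one_mul, Matrix.mul_one] at h4
  have h5 : (t - t') • (g * Y) = 0 := by
    rw [sub_smul]
    have := sub_left_injective h4
    rw [this, sub_self]
  have h6 : g * Y = 0 := by
    rcases smul_eq_zero.1 h5 with h7 | h7
    · exact absurd (sub_eq_zero.1 h7).symm ht
    · exact h7
  rw [h6, Matrix.zero_mul] at h
  exact h.symm

/-- The action `X ↦ g X g*`. -/
def act : Matrix.SpecialLinearGroup (Fin 2) K →* Module.End K (Matrix (Fin 2) (Fin 2) K) where
  toFun g := LinearMap.mulLeft K g.1 * LinearMap.mulRight K (st bar g.1)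
  map_one' := by
    ext X
    simp [st_one]
  map_mul' g h := by
    ext X : 1
    simp [Module.End.mul_apply, st_mul, Matrix.mul_assoc]

theorem act_apply (g : Matrix.SpecialLinearGroup (Fin 2) K) (X : Matrix (Fin 2) (Fin 2) K) :
    act bar g X = g.1 * X * st bar g.1 := by
  simp [act, Module.End.mul_apply, Matrix.mul_assoc]

end two

end Cfsg.Agent.H374.Two
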