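import Mathlib
import Cfsg.Agent.H374.Two

/-!
# The orders of the maps `X ↦ g X g*`, `g ∈ SL₂(q²)`
-/

set_option autoImplicit false

namespace Cfsg.Agent.H374.TwoB

open Polynomial Matrix Quad SpChar SpLow Two

variable {K : Type*} [Field K] {p n : ℕ} [hp : Fact p.Prime] [CharP K p]

/-- The group of invertible endomorphisms. -/
abbrev EU (K : Type*) [Field K] : Type _ := (Module.End K (Matrix (Fin 2) (Fin 2) K))ˣ

/-- `x ↦ x^q`. -/
abbrev bar (K : Type*) [Field K] (p n : ℕ) [Fact p.Prime] [CharP K p] : K →+* K :=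
  iterateFrobenius K p n

theorem bar_apply (x : K) : bar K p n x = x ^ (p ^ n) := iterateFrobenius_def p n x

/-- The action as a homomorphism to a group. -/
noncomputable def actU (bar : K →+* K) : Matrix.SpecialLinearGroup (Fin 2) K →* EU K :=
  (act bar).toHomUnits

omit hp [CharP K p] in
theorem actU_coe (b : K →+* K) (g : Matrix.SpecialLinearGroup (Fin 2) K) :
    ((actU b g : EU K) : Module.End K _) = act b g := rfl

theorem gcd_eq (hn : n ≠ 0) : Nat.gcd 2 (p ^ (2 * n) - 1) = Nat.gcd 2 (p ^ n - 1) := by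
  by_cases h2 : p = 2
  · subst h2
    rw [gcd_of_even ((even_two).pow_of_ne_zero (by omega)) ?_,
      gcd_of_even ((even_two).pow_of_ne_zero hn) ?_]
    · exact Nat.le_self_pow hn 2
    · exact Nat.le_self_pow (by omega) 2
  · have ho : Odd p := hp.out.odd_of_ne_two h2
    rw [gcd_of_odd ho.pow, gcd_of_odd ho.pow]

/-- Scalars `±1` act trivially. -/
theorem act_scalar {g : Matrix.SpecialLinearGroup (Fin 2) K} {η : K} (hη : η ^ 2 = 1)
    (h : g.1 = η • 1) : act (bar K p n) g = 1 := by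
  ext X : 1
  rw [act_apply, h]
  have h1 : st (bar K p n) (η • 1) = η • 1 := by
    rw [st]
    ext i j
    simp only [Matrix.transpose_apply, Matrix.map_apply, Matrix.smul_apply, smul_eq_mul, map_mul,
      bar_apply, eta_pow_pn hη]
    rw [Matrix.one_apply, Matrix.one_apply]
    by_cases hij : i = j
    · simp [hij]
    · simp [hij, Ne.symm hij, hp.out.ne_zero]
  rw [h1]
  simp only [Matrix.smul_mul, Matrix.one_mul, Matrix.mul_smul, Matrix.mul_one, smul_smul,
    Module.End.one_apply]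
  rw [← pow_two, hη, one_smul]

omit hp [CharP K p] in
/-- The kernel of the action consists of `±1`. -/
theorem scalar_of_act {b : K →+* K} {g : Matrix.SpecialLinearGroup (Fin 2) K} (h : act b g = 1) :
    ∃ c : K, c ^ 2 = 1 ∧ g.1 = c • 1 := by
  have h1 : ∀ X, g.1 * X * st b g.1 = X := by
    intro X
    rw [← act_apply, h, Module.End.one_apply]
  have h2 : g.1 * st b g.1 = 1 := by simpa using h1 1
  have h3 : st b g.1 * g.1 = 1 := mul_eq_one_comm.1 h2
  have h4 : ∀ X, g.1 * X = X * g.1 := by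
    intro X
    calc g.1 * X = (g.1 * X * st b g.1) * g.1 := by
          rw [Matrix.mul_assoc (g.1 * X), h3, Matrix.mul_one]
      _ = X * g.1 := by rw [h1]
  have e1 := congrFun (congrFun (h4 !![1, 0; 0, 0]) 0) 1
  have e2 := congrFun (congrFun (h4 !![1, 0; 0, 0]) 1) 0
  have e3 := congrFun (congrFun (h4 !![0, 1; 0, 0]) 0) 1
  simp [Matrix.mul_apply, Fin.sum_univ_two] at e1 e2 e3
  have hd := g.2
  rw [Matrix.det_fin_two] at hd
  refine ⟨g.1 0 0, ?_, ?_⟩
  · rw [← e3, ← e1] at hd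
    linear_combination hd
  · ext i j
    fin_cases i <;> fin_cases j <;> simp [e1.symm, e2, e3]

theorem pow_gcd_of_sq {c : K} (hn : n ≠ 0) (h : c ^ 2 = 1) : c ^ Nat.gcd 2 (p ^ n - 1) = 1 := by
  rw [pow_gcd_eq_one]
  exact ⟨h, (pow_of_sq h hn).1⟩

theorem actU_pow_eq_one {g : Matrix.SpecialLinearGroup (Fin 2) K} {m : ℕ} {η : K} (hη : η ^ 2 = 1)
    (h : g.1 ^ m = η • 1) : (actU (bar K p n) g) ^ m = 1 := by
  rw [← map_pow]
  apply Units.ext
  rw [actU_coe, Units.val_one]
  apply act_scalar hη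
  rw [Matrix.SpecialLinearGroup.coe_pow, h]

omit hp [CharP K p] in
theorem scalar_of_actU_pow {b : K →+* K} {g : Matrix.SpecialLinearGroup (Fin 2) K} {m : ℕ}
    (h : (actU b g) ^ m = 1) : ∃ c : K, c ^ 2 = 1 ∧ g.1 ^ m = c • 1 := by
  rw [← map_pow] at h
  have h1 : act b (g ^ m) = 1 := by
    rw [← actU_coe, h, Units.val_one]
  obtain ⟨c, hc, hc'⟩ := scalar_of_act h1
  exact ⟨c, hc, by rw [← hc', Matrix.SpecialLinearGroup.coe_pow]⟩

/-- Upper bound for the orders. -/
theorem up_one [Fintype K] (hn : n ≠ 0) (hK : Fintype.card K = p ^ (2 * n))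
    (g : Matrix.SpecialLinearGroup (Fin 2) K) :
    orderOf (actU (bar K p n) g) ∣ ((p ^ n) ^ 2 - 1) / Nat.gcd 2 (p ^ n - 1) ∨
      orderOf (actU (bar K p n) g) ∣ ((p ^ n) ^ 2 + 1) / Nat.gcd 2 (p ^ n - 1) ∨
      orderOf (actU (bar K p n) g) ∣ p := by
  obtain ⟨m, η, hm, hη, h⟩ := exists_pow_two (p := p) (k := 2 * n) g.1 g.2 (by
    rw [← hK, FiniteField.pow_card])
  have h1 := orderOf_dvd_of_pow_eq_one (actU_pow_eq_one (p := p) (n := n) hη h)
  rw [gcd_eq hn, mul_comm 2 n, pow_mul] at hm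
  rcases hm with h2 | h2 | ⟨h2, -⟩
  · rw [h2] at h1; exact Or.inl h1
  · rw [h2] at h1; exact Or.inr (Or.inl h1)
  · rw [h2] at h1; exact Or.inr (Or.inr h1)

/-- Upper bound for the orders, in the presence of fixed points. -/
theorem up_two {g : Matrix.SpecialLinearGroup (Fin 2) K}
    (hT : Aff.T (orderOf (actU (bar K p n) g)) (act (bar K p n) g) ≠ 0) :
    orderOf (actU (bar K p n) g) ∣ (p ^ n - 1) / Nat.gcd 2 (p ^ n - 1) ∨
      orderOf (actU (bar K p n) g) ∣ (p ^ n + 1) / Nat.gcd 2 (p ^ n - 1) ∨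
      (orderOf (actU (bar K p n) g) ∣ p ∧ ∃ η : K, η ^ 2 = 1 ∧ (g.1 - η • 1) ^ 2 = 0) := by
  have ht : bar K p n g.1.trace = g.1.trace := by
    by_contra ht
    apply hT
    ext X : 1
    have h1 : (act (bar K p n) g) (Aff.T (orderOf (actU (bar K p n) g)) (act (bar K p n) g) X) =
        Aff.T (orderOf (actU (bar K p n) g)) (act (bar K p n) g) X := by
      have h2 := Aff.mul_T (orderOf (actU (bar K p n) g)) (act (bar K p n) g)
      have h3 : (act (bar K p n) g) ^ (orderOf (actU (bar K p n) g)) = 1 := by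
        rw [← actU_coe, ← Units.val_pow_eq_pow_val, pow_orderOf_eq_one, Units.val_one]
      rw [h3, sub_self] at h2
      have h4 := LinearMap.congr_fun h2 X
      rw [Module.End.mul_apply, LinearMap.sub_apply, Module.End.one_apply, LinearMap.zero_apply,
        sub_eq_zero] at h4
      exact h4
    rw [act_apply] at h1
    rw [LinearMap.zero_apply]
    exact fixed_zero (bar K p n) g.2 ht h1
  rw [bar_apply] at ht
  obtain ⟨m, η, hm, hη, h⟩ := exists_pow_two (p := p) (k := n) g.1 g.2 ht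
  have h1 := orderOf_dvd_of_pow_eq_one (actU_pow_eq_one (p := p) (n := n) hη h)
  rcases hm with h2 | h2 | ⟨h2, h3⟩
  · rw [h2] at h1; exact Or.inl h1
  · rw [h2] at h1; exact Or.inr (Or.inl h1)
  · rw [h2] at h1; exact Or.inr (Or.inr ⟨h1, η, hη, h3⟩)

/-- The companion matrix. -/
def cm (t : K) : Matrix.SpecialLinearGroup (Fin 2) K := ⟨!![0, -1; 1, t], by
  rw [Matrix.det_fin_two_of]; ring⟩

omit hp [CharP K p] in
theorem cm_trace (t : K) : (cm t).1.trace = t := by
  simp [cm, Matrix.trace_fin_two]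

/-- The order of the companion matrix modulo `±1`. -/
theorem exists_cm [Fintype K] (hn : n ≠ 0) (hK : Fintype.card K = p ^ (2 * n)) {k M : ℕ}
    (hk : k = n ∨ k = 2 * n)
    (hM3 : 3 ≤ M) (hM : M = p ^ k - 1 ∨ M = p ^ k + 1) :
    ∃ t : K, t ^ (p ^ k) = t ∧ orderOf (actU (bar K p n) (cm t)) = M / Nat.gcd 2 (p ^ n - 1) := by
  have hk0 : k ≠ 0 := by omega
  have hpk : 1 ≤ p ^ k := Nat.one_le_pow _ _ hp.out.pos
  let L := AlgebraicClosure K
  let i : K →+* L := algebraMap K L
  have hL : CharP L p := charP_of_injective_ringHom i.injective p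
  have hMK : (M : L) ≠ 0 := by
    intro h0
    rw [CharP.cast_eq_zero_iff L p] at h0
    have h1 : p ∣ p ^ k := dvd_pow_self p hk0
    have h2 : p ∣ 1 := by
      rcases hM with h | h
      · have : p ^ k = M + 1 := by omega
        rw [this] at h1
        exact (Nat.dvd_add_right h0).1 h1
      · rw [h] at h0
        exact (Nat.dvd_add_right h1).1 h0
    exact hp.out.one_lt.ne' (Nat.dvd_one.1 h2)
  have : NeZero (M : L) := ⟨hMK⟩
  obtain ⟨α, hα⟩ := HasEnoughRootsOfUnity.exists_primitiveRoot L M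
  have hα0 : α ≠ 0 := hα.ne_zero (by omega)
  have hinv : α ≠ α⁻¹ := by
    intro h
    have := Nat.le_of_dvd (by norm_num) (hα.dvd_of_pow_eq_one 2 (sq_eq_one_of_eq_inv hα0 h))
    omega
  set s := α + α⁻¹ with hs
  have hsk : s ^ (p ^ k) = s := by
    rw [hs, pow_q_add, inv_pow]
    rcases hM with h | h
    · have h5 := hα.pow_eq_one
      rw [h] at h5
      have : α ^ (p ^ k) = α := by
        calc α ^ (p ^ k) = α ^ (p ^ k - 1) * α := by rw [← pow_succ, Nat.sub_add_cancel hpk]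
          _ = α := by rw [h5, one_mul]
      rw [this]
    · have h5 := hα.pow_eq_one
      rw [h, pow_succ] at h5
      have : α ^ (p ^ k) = α⁻¹ := eq_inv_of_mul_eq_one_left h5
      rw [this, inv_inv, add_comm]
  have hsK : s ^ Fintype.card K = s := by
    rw [hK]
    rcases hk with h | h
    · rw [h] at hsk
      rw [mul_comm, pow_mul, pow_two, pow_mul, hsk, hsk]
    · rw [← h]; exact hsk
  obtain ⟨t, ht⟩ := mem_range_of_pow i hsK
  have hgM : M / Nat.gcd 2 (p ^ n - 1) * Nat.gcd 2 (p ^ n - 1) = M := by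
    have hgk : Nat.gcd 2 (p ^ n - 1) = Nat.gcd 2 (p ^ k - 1) := by
      rcases hk with h | h
      · rw [h]
      · rw [h, gcd_eq hn]
    rw [hgk]
    rcases hM with h | h
    · rw [h]; exact div_gcd_sub
    · rw [h]; exact div_gcd_add hpk
  have hg0 : 0 < Nat.gcd 2 (p ^ n - 1) := Nat.gcd_pos_of_pos_left _ (by norm_num)
  refine ⟨t, ?_, ?_⟩
  · apply i.injective
    rw [map_pow, ht, hsk]
  apply Nat.dvd_antisymm
  · have h5 : (α ^ (M / Nat.gcd 2 (p ^ n - 1))) ^ 2 = 1 := by
      apply sq_of_gcd (q := p ^ n)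
      rw [← pow_mul, hgM, hα.pow_eq_one]
    have h6 := f_dvd hα0 hinv rfl h5
    rw [← hs, ← ht] at h6
    obtain ⟨c, hc, hc2⟩ : ∃ c : K, i c = α ^ (M / Nat.gcd 2 (p ^ n - 1)) ∧ c ^ 2 = 1 := by
      have h1 : (α ^ (M / Nat.gcd 2 (p ^ n - 1)) - 1) * (α ^ (M / Nat.gcd 2 (p ^ n - 1)) + 1) = 0 := by
        linear_combination h5
      rcases mul_eq_zero.1 h1 with h2 | h2
      · exact ⟨1, by rw [map_one]; exact (sub_eq_zero.1 h2).symm, one_pow _⟩
      · exact ⟨-1, by rw [map_neg, map_one]; exact (eq_neg_of_add_eq_zero_left h2).symm, by norm_num⟩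
    apply orderOf_dvd_of_pow_eq_one
    apply actU_pow_eq_one (η := c) hc2
    apply pow_of_dvd (aeval_f (cm t).1 (cm t).2)
    rw [cm_trace, ← Polynomial.map_dvd_map' i, f_map]
    simpa [hc] using h6
  · obtain ⟨c, hc2, hc⟩ := scalar_of_actU_pow (pow_orderOf_eq_one (actU (bar K p n) (cm t)))
    obtain ⟨v, hv, hv'⟩ := exists_eigen (S := (cm t).1.map i) (s := α) (by
      have e1 : ((cm t).1.map i).trace = i t := by
        simp [cm, Matrix.trace_fin_two]
      have e2 : ((cm t).1.map i).det = 1 := by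
        have := (RingHom.map_det i (cm t).1).symm
        rw [(cm t).2, map_one] at this
        exact this
      rw [e1, e2, ht, hs]
      have h9 : α⁻¹ * α = 1 := inv_mul_cancel₀ hα0
      linear_combination (-1 : L) * h9)
    have h7 := pow_eq_of_eigen i hv hv' hc
    have h8 : α ^ (orderOf (actU (bar K p n) (cm t)) * Nat.gcd 2 (p ^ n - 1)) = 1 := by
      rw [pow_mul, h7, ← map_pow, pow_gcd_of_sq hn hc2, map_one]
    have h9 := hα.dvd_of_pow_eq_one _ h8
    rw [← hgM] at h9
    exact Nat.dvd_of_mul_dvd_mul_right hg0 h9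

/-- `J = [0 1; -1 0]` is fixed by the companion matrices with trace fixed by `bar`. -/
theorem cm_fixed {t : K} (ht : t ^ (p ^ n) = t) :
    act (bar K p n) (cm t) !![0, 1; -1, 0] = !![0, 1; -1, 0] := by
  have h1 : st (bar K p n) (cm t).1 = !![0, 1; -1, t] := by
    rw [st, cm]
    ext i j
    fin_cases i <;> fin_cases j <;>
      simp [Matrix.map_apply, bar_apply, ht, hp.out.ne_zero]
    · exact eta_pow_pn (by norm_num) n
  rw [act_apply, h1, cm]
  ext i j
  fin_cases i <;> fin_cases j <;> simp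

end Cfsg.Agent.H374.TwoB
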