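import Mathlib
import Cfsg.Agent.H374.TwoB
import Cfsg.Agent.H374.SpFour

/-!
# Groups isospectral to `PSp₄(q)`: assembly, and the case `q` even

`SL₂(q²)` acting on its orthogonal module `X ↦ g X g*`.
-/

set_option autoImplicit false

namespace Cfsg.Agent.H374.Iso

open Polynomial Matrix Quad SpChar SpLow Two TwoB

/-- The condition for `m` to be the order of an element over `a` in `W ⋊ A`. -/
def P {K A W : Type*} [Field K] [Group A] [AddCommGroup W] [Module K W]
    (ρ : A →* Module.End K W) (p : ℕ) (a : A) (m : ℕ) : Prop :=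
  orderOf a = m ∨ (p * orderOf a = m ∧ Aff.T (orderOf a) (ρ a) ≠ 0)

/-- The assembly. -/
theorem assemble {K A W : Type*} [Field K] [Group A] [Finite A] [AddCommGroup W] [Finite W]
    [Nontrivial W] [Module K W] {p n : ℕ} [hp : Fact p.Prime] [CharP K p]
    (ρ : A →* Module.End K W) {F : Type*} [Field F] [Fintype F] [CharP F p] (hn : n ≠ 0)
    (hF : Fintype.card F = p ^ n) (h3 : 3 ≤ p ^ n)
    (hup : ∀ (a : A) (m : ℕ), P ρ p a m → Om p (p ^ n) m)
    (l1 : ∃ a, P ρ p a (p * (p ^ n - 1))) (l2 : ∃ a, P ρ p a (p * (p ^ n + 1)))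
    (l3 : ∃ a, P ρ p a (((p ^ n) ^ 2 - 1) / Nat.gcd 2 (p ^ n - 1)))
    (l4 : ∃ a, P ρ p a (((p ^ n) ^ 2 + 1) / Nat.gcd 2 (p ^ n - 1)))
    (l5 : p = 3 → ∃ a, P ρ p a 9) (l6 : p = 2 → ∃ a, P ρ p a 4) (N : ℕ) :
    ∃ (H : Type) (_ : Group H) (_ : Fintype H), N < Fintype.card H ∧
      Set.range (orderOf : H → ℕ) = Set.range (orderOf : Cfsg.PSp 2 F → ℕ) := by
  refine Aff.unbounded (ρ := ρ) (p := p) (fun m => ?_) N
  rw [SpFour.exists_iff hn hF h3]
  constructor
  · have key : ∀ {M m : ℕ}, 0 < M → (∃ a, P ρ p a M) → m ∣ M → ∃ a, P ρ p a m := by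
      intro M m hM0 hM hm
      obtain ⟨x, hx⟩ := (Aff.exists_orderOf_iff (ρ := ρ) (p := p) M).2 hM
      exact (Aff.exists_orderOf_iff (ρ := ρ) (p := p) m).1 (SpFour.exists_of_dvd hx hM0 hm)
    have hT := mul_div_gcd_sub (q := p ^ n) (by omega)
    have hT' := mul_div_gcd_add (q := p ^ n) (by omega)
    have h9 : 3 ^ 2 ≤ (p ^ n) ^ 2 := Nat.pow_le_pow_left h3 2
    rintro (h | h | h | h | ⟨h2, h⟩ | ⟨h2, h⟩)
    · exact key (Nat.mul_pos hp.out.pos (by omega)) l1 h
    · exact key (Nat.mul_pos hp.out.pos (by omega)) l2 h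
    · exact key (Nat.pos_of_mul_pos_right (b := Nat.gcd 2 (p ^ n - 1)) (by rw [hT]; omega)) l3 h
    · exact key (Nat.pos_of_mul_pos_right (b := Nat.gcd 2 (p ^ n - 1)) (by rw [hT']; omega)) l4 h
    · exact key (by norm_num) (l5 h2) h
    · exact key (by norm_num) (l6 h2) h
  · rintro ⟨a, ha⟩
    exact hup a m ha

/-- The inclusion of a group of invertible maps as a representation. -/
noncomputable def repOf {K W : Type*} [Field K] [AddCommGroup W] [Module K W]
    (A : Subgroup (Module.End K W)ˣ) : A →* Module.End K W :=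
  (Units.coeHom (Module.End K W)).comp A.subtype

theorem repOf_apply {K W : Type*} [Field K] [AddCommGroup W] [Module K W]
    (A : Subgroup (Module.End K W)ˣ) (a : A) : repOf A a = (a.1 : Module.End K W) := rfl

/-- A finite field of order `p ^ (2 n)`. -/
theorem exists_field (p n : ℕ) [Fact p.Prime] (hn : n ≠ 0) :
    ∃ (K : Type) (_ : Field K) (_ : Fintype K) (_ : CharP K p), Fintype.card K = p ^ (2 * n) := by
  have : Fintype (GaloisField p (2 * n)) := Fintype.ofFinite _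
  refine ⟨GaloisField p (2 * n), inferInstance, inferInstance, inferInstance, ?_⟩
  rw [← Nat.card_eq_fintype_card, GaloisField.card p _ (by omega)]

instance instFiniteEnd {K W : Type*} [Field K] [AddCommGroup W] [Module K W] [Finite W] :
    Finite (Module.End K W) :=
  Finite.of_injective (fun L : Module.End K W => (L : W → W)) DFunLike.coe_injective

instance instFiniteEndUnits {K W : Type*} [Field K] [AddCommGroup W] [Module K W] [Finite W] :
    Finite (Module.End K W)ˣ :=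
  Finite.of_injective _ Units.val_injective

section

variable {K : Type*} [Field K] [Fintype K] {p n : ℕ} [hp : Fact p.Prime] [CharP K p]

/-- The tori of order `q² ± 1`. -/
theorem low_conj (hn : n ≠ 0) (h3 : 3 ≤ p ^ n) (hK : Fintype.card K = p ^ (2 * n)) :
    (∃ t : K, orderOf (actU (bar K p n) (cm t)) = ((p ^ n) ^ 2 - 1) / Nat.gcd 2 (p ^ n - 1)) ∧
    (∃ t : K, orderOf (actU (bar K p n) (cm t)) = ((p ^ n) ^ 2 + 1) / Nat.gcd 2 (p ^ n - 1)) := by
  have h9 : 3 ^ 2 ≤ (p ^ n) ^ 2 := Nat.pow_le_pow_left h3 2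
  have e : p ^ (2 * n) = (p ^ n) ^ 2 := by rw [mul_comm, pow_mul]
  constructor
  · obtain ⟨t, -, ht⟩ := exists_cm hn hK (Or.inr rfl) (M := (p ^ n) ^ 2 - 1) (by omega)
      (by rw [e]; exact Or.inl rfl)
    exact ⟨t, ht⟩
  · obtain ⟨t, -, ht⟩ := exists_cm hn hK (Or.inr rfl) (M := (p ^ n) ^ 2 + 1) (by omega)
      (by rw [e]; exact Or.inr rfl)
    exact ⟨t, ht⟩

end

/-- The case `q` even. -/
theorem case_even {n : ℕ} {F : Type*} [Field F] [Fintype F] [CharP F 2] (hn : n ≠ 0)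
    (hF : Fintype.card F = 2 ^ n) (h3 : 3 ≤ 2 ^ n) (N : ℕ) :
    ∃ (H : Type) (_ : Group H) (_ : Fintype H), N < Fintype.card H ∧
      Set.range (orderOf : H → ℕ) = Set.range (orderOf : Cfsg.PSp 2 F → ℕ) := by
  have hf2 : Fact (Nat.Prime 2) := ⟨Nat.prime_two⟩
  obtain ⟨K, iK, iF, iC, hK⟩ := exists_field 2 n hn
  let A := (actU (bar K 2 n)).range
  have hA : ∀ a : A, ∃ g, actU (bar K 2 n) g = a.1 := fun a => a.2
  have hmem : ∀ g, actU (bar K 2 n) g ∈ A := fun g => ⟨g, rfl⟩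
  have hoo : ∀ g, orderOf (⟨actU (bar K 2 n) g, hmem g⟩ : A) = orderOf (actU (bar K 2 n) g) :=
    fun g => Subgroup.orderOf_mk _ _
  have h4 : 4 ≤ 2 ^ n := by
    rcases Nat.lt_or_ge n 2 with h | h
    · have : n = 1 := by omega
      subst this; norm_num at h3
    · calc 4 = 2 ^ 2 := by norm_num
        _ ≤ 2 ^ n := Nat.pow_le_pow_right (by norm_num) h
  have hg1 : Nat.gcd 2 (2 ^ n - 1) = 1 := gcd_of_even ((even_two).pow_of_ne_zero hn) (by omega)
  obtain ⟨⟨t1, ht1⟩, ⟨t2, ht2⟩⟩ := low_conj (K := K) hn h3 hK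
  have hfix : ∀ {t : K} {M : ℕ}, t ^ (2 ^ n) = t → (M : K) ≠ 0 →
      orderOf (actU (bar K 2 n) (cm t)) = M →
      P (repOf A) 2 ⟨actU (bar K 2 n) (cm t), hmem _⟩ (2 * M) := by
    intro t M ht hM hord
    right
    rw [hoo, hord]
    refine ⟨rfl, ?_⟩
    intro h
    have h1 : Aff.T M (act (bar K 2 n) (cm t)) = 0 := h
    have h2 := Aff.T_of_fixed (k := M) (cm_fixed (n := n) ht)
    rw [h1, LinearMap.zero_apply] at h2
    rcases smul_eq_zero.1 h2.symm with h3 | h3
    · exact hM h3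
    · have := congrFun (congrFun h3 0) 1
      simp at this
  have hcast : ∀ {M : ℕ}, Odd M → (M : K) ≠ 0 := by
    intro M hM h0
    rw [CharP.cast_eq_zero_iff K 2] at h0
    exact (Nat.not_even_iff_odd.2 hM) (even_iff_two_dvd.2 h0)
  refine assemble (p := 2) (repOf A) hn hF h3 ?_ ?_ ?_ ?_ ?_ ?_ ?_ N
  · -- upper bound
    intro a m hm
    obtain ⟨g, hg⟩ := hA a
    have ho : orderOf a = orderOf (actU (bar K 2 n) g) := by
      rw [hg, Subgroup.orderOf_coe]
    rcases hm with rfl | ⟨rfl, hT⟩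
    · rw [ho]
      rcases up_one hn hK g with h | h | h
      · exact Or.inr (Or.inr (Or.inl h))
      · exact Or.inr (Or.inr (Or.inr (Or.inl h)))
      · exact Or.inr (Or.inr (Or.inr (Or.inr (Or.inr ⟨rfl, h.trans (by norm_num)⟩))))
    · have hT' : Aff.T (orderOf (actU (bar K 2 n) g)) (act (bar K 2 n) g) ≠ 0 := by
        rw [← ho, ← actU_coe, hg]
        exact hT
      rw [ho]
      rcases up_two hT' with h | h | ⟨h, -⟩
      · rw [hg1, Nat.div_one] at h
        exact Or.inl (Nat.mul_dvd_mul_left 2 h)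
      · rw [hg1, Nat.div_one] at h
        exact Or.inr (Or.inl (Nat.mul_dvd_mul_left 2 h))
      · exact Or.inr (Or.inr (Or.inr (Or.inr (Or.inr ⟨rfl, Nat.mul_dvd_mul_left 2 h⟩))))
  · obtain ⟨t, ht, ht'⟩ := exists_cm (n := n) hn hK (Or.inl rfl) (M := 2 ^ n - 1) (by omega)
      (Or.inl rfl)
    rw [hg1, Nat.div_one] at ht'
    refine ⟨_, hfix ht (hcast ?_) ht'⟩
    exact Nat.Even.sub_odd (by omega) ((even_two).pow_of_ne_zero hn) odd_one
  · obtain ⟨t, ht, ht'⟩ := exists_cm (n := n) hn hK (Or.inl rfl) (M := 2 ^ n + 1) (by omega)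
      (Or.inr rfl)
    rw [hg1, Nat.div_one] at ht'
    refine ⟨_, hfix ht (hcast ?_) ht'⟩
    exact ((even_two).pow_of_ne_zero hn).add_odd odd_one
  · exact ⟨⟨actU (bar K 2 n) (cm t1), hmem _⟩, Or.inl (by rw [hoo, ht1])⟩
  · exact ⟨⟨actU (bar K 2 n) (cm t2), hmem _⟩, Or.inl (by rw [hoo, ht2])⟩
  · intro h; omega
  · -- an element of order four
    intro _
    let g : Matrix.SpecialLinearGroup (Fin 2) K := ⟨!![1, 1; 0, 1], by
      rw [Matrix.det_fin_two_of]; ring⟩
    have hst : st (bar K 2 n) g.1 = !![1, 0; 1, 1] := by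
      rw [st]
      ext i j
      fin_cases i <;> fin_cases j <;> simp [g, Matrix.map_apply]
    have h2 : (2 : K) = 0 := CharTwo.two_eq_zero
    have hE : act (bar K 2 n) g !![0, 0; 0, 1] = !![1, 1; 1, 1] := by
      rw [act_apply, hst]
      ext i j
      fin_cases i <;> fin_cases j <;> simp [g]
    have hord : orderOf (actU (bar K 2 n) g) = 2 := by
      apply orderOf_eq_prime
      · apply actU_pow_eq_one (η := 1) (one_pow _)
        ext i j
        fin_cases i <;> fin_cases j <;> simp [g, pow_two, Matrix.mul_apply, Fin.sum_univ_two]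
        rw [one_add_one_eq_two, h2]
      · intro h
        have h1 : act (bar K 2 n) g = 1 := by rw [← actU_coe, h, Units.val_one]
        rw [h1, Module.End.one_apply] at hE
        have := congrFun (congrFun hE 0) 0
        simp at this
    refine ⟨⟨actU (bar K 2 n) g, hmem _⟩, Or.inr ?_⟩
    rw [hoo, hord]
    refine ⟨rfl, ?_⟩
    intro h
    have h1 : Aff.T 2 (act (bar K 2 n) g) = 0 := h
    have h3 := LinearMap.congr_fun h1 !![0, 0; 0, 1]
    rw [Aff.T, Finset.sum_range_succ, Finset.sum_range_succ, Finset.sum_range_zero, zero_add,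
      pow_zero, pow_one, LinearMap.add_apply, hE, Module.End.one_apply] at h3
    have := congrFun (congrFun h3 0) 0
    simp at this

end Cfsg.Agent.H374.Iso
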