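import Mathlib
import Cfsg.Agent.H374.CaseEven

/-!
# A group isospectral to `PSp₄(3)`

`3⁴ : S₅`, the deleted permutation module times the sign character.
-/

set_option autoImplicit false

namespace Cfsg.Agent.H374.IsoQ3

open Equiv Iso Quad

/-- The vectors of sum zero. -/
def W : Submodule (ZMod 3) (Fin 5 → ZMod 3) where
  carrier := {v | ∑ x, v x = 0}
  add_mem' := by
    intro a b ha hb
    change ∑ x, (a x + b x) = 0
    rw [Finset.sum_add_distrib]
    have ha' : ∑ x, a x = 0 := ha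
    have hb' : ∑ x, b x = 0 := hb
    rw [ha', hb', add_zero]
  zero_mem' := by
    change ∑ x, (0 : ZMod 3) = 0
    simp
  smul_mem' := by
    intro c a ha
    change ∑ x, c * a x = 0
    rw [← Finset.mul_sum]
    have ha' : ∑ x, a x = 0 := ha
    rw [ha', mul_zero]

/-- The sign with values in `ZMod 3`. -/
def s : Perm (Fin 5) →* ZMod 3 where
  toFun L := ((Perm.sign L : ℤ) : ZMod 3)
  map_one' := by simp
  map_mul' a b := by simp

/-- The action on `W`. -/
def rho : Perm (Fin 5) →* Module.End (ZMod 3) W where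
  toFun L :=
    { toFun := fun v => ⟨fun x => s L * v.1 (L⁻¹ x), by
        change ∑ x, s L * v.1 (L⁻¹ x) = 0
        rw [← Finset.mul_sum, Equiv.sum_comp L⁻¹ v.1]
        have : ∑ x, v.1 x = 0 := v.2
        rw [this, mul_zero]⟩
      map_add' := fun v w => by
        ext x
        change s L * (v.1 (L⁻¹ x) + w.1 (L⁻¹ x)) = s L * v.1 (L⁻¹ x) + s L * w.1 (L⁻¹ x)
        ring
      map_smul' := fun c v => by
        ext x
        change s L * (c * v.1 (L⁻¹ x)) = c * (s L * v.1 (L⁻¹ x))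
        ring }
  map_one' := by
    ext v x
    change s 1 * v.1 ((1 : Perm (Fin 5))⁻¹ x) = v.1 x
    rw [map_one, one_mul, inv_one, Perm.one_apply]
  map_mul' L M := by
    ext v x
    change s (L * M) * v.1 ((L * M)⁻¹ x) = s L * (s M * v.1 (M⁻¹ (L⁻¹ x)))
    rw [map_mul, mul_inv_rev, Perm.mul_apply, mul_assoc]

theorem rho_apply (L : Perm (Fin 5)) (v : W) (x : Fin 5) : (rho L v).1 x = s L * v.1 (L⁻¹ x) := rfl

theorem T_apply (k : ℕ) (L : Perm (Fin 5)) (v : W) (x : Fin 5) :
    (Aff.T k (rho L) v).1 x = ∑ i ∈ Finset.range k, s L ^ i * v.1 ((L ^ i)⁻¹ x) := by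
  rw [Aff.T, LinearMap.sum_apply]
  rw [AddSubmonoidClass.coe_finsetSum, Finset.sum_apply]
  apply Finset.sum_congr rfl
  intro i _
  rw [← map_pow, rho_apply, map_pow]

/-- The matrix entries of `T`. -/
def cf (k : ℕ) (e : ZMod 3) (L : Perm (Fin 5)) (x y : Fin 5) : ZMod 3 :=
  ∑ i ∈ Finset.range k, if (L ^ i) y = x then e ^ i else 0

theorem T_zero {k : ℕ} {e : ZMod 3} {L : Perm (Fin 5)} (he : s L = e)
    (h : ∀ x y, cf k e L x y = cf k e L x 0) : Aff.T k (rho L) = 0 := by
  ext v x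
  rw [T_apply]
  have h1 : ∑ i ∈ Finset.range k, s L ^ i * v.1 ((L ^ i)⁻¹ x) = ∑ y, cf k e L x y * v.1 y := by
    simp only [cf, Finset.sum_mul]
    rw [Finset.sum_comm]
    apply Finset.sum_congr rfl
    intro i _
    rw [Finset.sum_eq_single ((L ^ i)⁻¹ x)]
    · rw [if_pos (by rw [← Perm.mul_apply, mul_inv_cancel, Perm.one_apply]), he]
    · intro y _ hy
      rw [if_neg, zero_mul]
      intro h2
      apply hy
      rw [← h2, ← Perm.mul_apply, inv_mul_cancel, Perm.one_apply]
    · intro h2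
      exact absurd (Finset.mem_univ _) h2
  rw [h1]
  have h2 : ∀ y, cf k e L x y * v.1 y = cf k e L x 0 * v.1 y := fun y => by rw [h x y]
  rw [Finset.sum_congr rfl fun y _ => h2 y, ← Finset.mul_sum]
  have : ∑ y, v.1 y = 0 := v.2
  rw [this, mul_zero]
  rfl

set_option maxRecDepth 100000 in
theorem orders : ∀ L : Perm (Fin 5), L ^ 4 = 1 ∨ L ^ 3 = 1 ∨ L ^ 5 = 1 ∨
    (L ^ 6 = 1 ∧ L ^ 3 ≠ 1 ∧ L ^ 2 ≠ 1) := by decide

set_option maxRecDepth 100000 in
theorem five : ∀ L : Perm (Fin 5), L ^ 5 = 1 → L ≠ 1 → ∀ x y, cf 5 1 L x y = cf 5 1 L x 0 := by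
  decide

set_option maxRecDepth 100000 in
theorem six : ∀ L : Perm (Fin 5), L ^ 6 = 1 → L ^ 3 ≠ 1 → L ^ 2 ≠ 1 →
    ∀ x y, cf 6 (-1) L x y = cf 6 (-1) L x 0 := by
  decide

set_option maxRecDepth 100000 in
theorem six_sign : ∀ L : Perm (Fin 5), L ^ 6 = 1 → L ^ 3 ≠ 1 → L ^ 2 ≠ 1 → Perm.sign L = -1 := by
  decide

theorem T_ne {k : ℕ} {L : Perm (Fin 5)} (v : W) (x : Fin 5)
    (h : ∑ i ∈ Finset.range k, s L ^ i * v.1 ((L ^ i)⁻¹ x) ≠ 0) : Aff.T k (rho L) ≠ 0 := by
  intro h0
  apply h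
  rw [← T_apply, h0]
  rfl

/-- `e₀ - e₄`. -/
def w04 : W := ⟨![1, 0, 0, 0, -1], by
  change ∑ x : Fin 5, (![1, 0, 0, 0, -1] : Fin 5 → ZMod 3) x = 0
  decide⟩

/-- Two cycles. -/
def c3 : Perm (Fin 5) := swap 0 1 * swap 1 2
def c4 : Perm (Fin 5) := swap 0 1 * swap 1 2 * swap 2 3
def c5 : Perm (Fin 5) := swap 0 1 * swap 1 2 * swap 2 3 * swap 3 4
def c6 : Perm (Fin 5) := swap 0 1 * swap 1 2 * swap 3 4

/-- The case `q = 3`. -/
theorem case_q_three {F : Type*} [Field F] [Fintype F] [CharP F 3] (hF : Fintype.card F = 3)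
    (N : ℕ) :
    ∃ (H : Type) (_ : Group H) (_ : Fintype H), N < Fintype.card H ∧
      Set.range (orderOf : H → ℕ) = Set.range (orderOf : Cfsg.PSp 2 F → ℕ) := by
  have hf3 : Fact (Nat.Prime 3) := ⟨Nat.prime_three⟩
  have hnt : Nontrivial W := by
    refine ⟨w04, 0, ?_⟩
    intro h
    have := congrArg (fun w : W => w.1 0) h
    simp [w04] at this
  have o3 : orderOf c3 = 3 := orderOf_eq_prime (by decide) (by decide)
  have o4 : orderOf c4 = 4 := by
    have : orderOf c4 = 2 ^ (1 + 1) := orderOf_eq_prime_pow (by decide) (by decide)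
    rw [this]; norm_num
  have hf5 : Fact (Nat.Prime 5) := ⟨Nat.prime_five⟩
  have o5 : orderOf c5 = 5 := orderOf_eq_prime (by decide) (by decide)
  have o6 : orderOf c6 = 6 := by
    apply orderOf_eq_of_pow_and_pow_div_prime (by norm_num) (by decide)
    intro p hp hpd
    have hp6 : p ∣ 2 * 3 := hpd
    rcases (Nat.Prime.dvd_mul hp).1 hp6 with h | h
    · have := (Nat.prime_dvd_prime_iff_eq hp Nat.prime_two).1 h
      subst this; decide
    · have := (Nat.prime_dvd_prime_iff_eq hp Nat.prime_three).1 h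
      subst this; decide
  refine assemble (K := ZMod 3) (p := 3) (n := 1) rho one_ne_zero (by rw [hF]; norm_num)
    (by norm_num) ?_ ?_ ?_ ?_ ?_ ?_ ?_ N
  · intro L m hm
    rcases orders L with h | h | h | ⟨h, h3, h2⟩
    · have h1 := orderOf_dvd_of_pow_eq_one h
      rcases hm with rfl | ⟨rfl, -⟩
      · exact Or.inr (Or.inl (h1.trans (by norm_num)))
      · exact Or.inr (Or.inl (Nat.mul_dvd_mul_left 3 (h1.trans (by norm_num))))
    · have h1 := orderOf_dvd_of_pow_eq_one h
      rcases hm with rfl | ⟨rfl, -⟩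
      · exact Or.inr (Or.inl (h1.trans (by norm_num)))
      · exact Or.inr (Or.inr (Or.inr (Or.inr (Or.inl ⟨rfl, Nat.mul_dvd_mul_left 3 h1⟩))))
    · have h1 := orderOf_dvd_of_pow_eq_one h
      rcases hm with rfl | ⟨rfl, hT⟩
      · exact Or.inr (Or.inr (Or.inr (Or.inl (h1.trans (by norm_num)))))
      · by_cases hL : L = 1
        · subst hL
          rw [orderOf_one]
          exact Or.inr (Or.inl (by norm_num))
        · exfalso
          have ho : orderOf L = 5 := by
            rcases (Nat.dvd_prime Nat.prime_five).1 h1 with h4 | h4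
            · exact absurd (orderOf_eq_one_iff.1 h4) hL
            · exact h4
          apply hT
          rw [ho]
          apply T_zero (e := 1) _ (five L h hL)
          have h5 : Perm.sign L ^ 5 = 1 := by rw [← map_pow, h, map_one]
          have h6 : Perm.sign L = 1 := by
            rcases Int.units_eq_one_or (Perm.sign L) with h7 | h7
            · exact h7
            · rw [h7] at h5
              exact absurd h5 (by decide)
          change ((Perm.sign L : ℤ) : ZMod 3) = 1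
          rw [h6]; simp
    · have h1 := orderOf_dvd_of_pow_eq_one h
      rcases hm with rfl | ⟨rfl, hT⟩
      · exact Or.inl (h1.trans (by norm_num))
      · exfalso
        have ho : orderOf L = 6 := by
          have h4 : ¬ orderOf L ∣ 3 := fun h5 => h3 (orderOf_dvd_iff_pow_eq_one.1 h5)
          have h6 : ¬ orderOf L ∣ 2 := fun h5 => h2 (orderOf_dvd_iff_pow_eq_one.1 h5)
          have h7 := Nat.le_of_dvd (by norm_num) h1
          interval_cases hk : orderOf L <;> omega
        apply hT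
        rw [ho]
        apply T_zero (e := -1) _ (six L h h3 h2)
        change ((Perm.sign L : ℤ) : ZMod 3) = -1
        rw [six_sign L h h3 h2]; simp
  · exact ⟨c6, Or.inl o6⟩
  · refine ⟨c4, Or.inr ⟨by rw [o4]; norm_num, ?_⟩⟩
    rw [o4]
    apply T_ne w04 0
    decide
  · exact ⟨c4, Or.inl (by rw [o4]; norm_num)⟩
  · exact ⟨c5, Or.inl (by rw [o5]; norm_num)⟩
  · intro _
    refine ⟨c3, Or.inr ⟨by rw [o3], ?_⟩⟩
    rw [o3]
    apply T_ne w04 0
    decide
  · intro h; omega

end Cfsg.Agent.H374.IsoQ3
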