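import Mathlib
import Cfsg.Agent.H374.CaseFive

/-!
# Groups isospectral to `PSp₄(q)`: the case `q = 3 ^ (2 t)`

`PSL₂(q²)` acting on `V ⊗ V^(3) ⊗ V^(q) ⊗ V^(q)`.
-/

set_option autoImplicit false

namespace Cfsg.Agent.H374.Iso3

open Polynomial Matrix Quad SpChar SpLow Two TwoB Iso

open scoped Kronecker

/-- The index set of the tensor product. -/
abbrev I : Type := ((Fin 2 × Fin 2) × Fin 2) × Fin 2

section

variable {L : Type*} [Field L] [CharP L 3] (n : ℕ)

instance instFactThree : Fact (Nat.Prime 3) := ⟨Nat.prime_three⟩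

/-- `g ⊗ g^(3) ⊗ g^(q) ⊗ g^(q)`. -/
def KL (g : Matrix (Fin 2) (Fin 2) L) : Matrix I I L :=
  ((g ⊗ₖ g.map (frobenius L 3)) ⊗ₖ g.map (bar L 3 n)) ⊗ₖ g.map (bar L 3 n)

theorem KL_apply (g : Matrix (Fin 2) (Fin 2) L) (x y : I) :
    KL n g x y = g x.1.1.1 y.1.1.1 * (g x.1.1.2 y.1.1.2) ^ 3 * (g x.1.2 y.1.2) ^ (3 ^ n) *
      (g x.2 y.2) ^ (3 ^ n) := by
  simp only [KL, Matrix.kroneckerMap_apply, Matrix.map_apply, frobenius_def, bar_apply]

theorem KL_mul (g h : Matrix (Fin 2) (Fin 2) L) : KL n (g * h) = KL n g * KL n h := by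
  simp only [KL, Matrix.map_mul, Matrix.mul_kronecker_mul]

theorem KL_one : KL n (1 : Matrix (Fin 2) (Fin 2) L) = 1 := by
  simp only [KL]
  rw [Matrix.map_one _ (map_zero _) (map_one _), Matrix.map_one _ (map_zero _) (map_one _),
    Matrix.one_kronecker_one, Matrix.one_kronecker_one, Matrix.one_kronecker_one]

/-- `KL` as a homomorphism. -/
def KLhom : Matrix (Fin 2) (Fin 2) L →* Matrix I I L where
  toFun := KL n
  map_one' := KL_one n
  map_mul' := KL_mul n

theorem KL_pow (g : Matrix (Fin 2) (Fin 2) L) (k : ℕ) : KL n (g ^ k) = (KL n g) ^ k :=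
  map_pow (KLhom n) g k

theorem KL_map {K : Type*} [Field K] [CharP K 3] (i : K →+* L) (g : Matrix (Fin 2) (Fin 2) K) :
    (KL n g).map i = KL n (g.map i) := by
  ext x y
  simp only [Matrix.map_apply, KL_apply, map_mul, map_pow]

/-- The eigenvalue of `KL (diag d)`. -/
def dl (d : Fin 2 → L) (x : I) : L := d x.1.1.1 * (d x.1.1.2) ^ 3 * (d x.1.2) ^ (3 ^ n) * (d x.2) ^ (3 ^ n)

theorem KL_diagonal (d : Fin 2 → L) : KL n (Matrix.diagonal d) = Matrix.diagonal (dl n d) := by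
  ext x y
  rw [KL_apply]
  obtain ⟨⟨⟨a, b⟩, c⟩, e⟩ := x
  obtain ⟨⟨⟨a', b'⟩, c'⟩, e'⟩ := y
  by_cases h : (((a, b), c), e) = (((a', b'), c'), e')
  · rw [h, Matrix.diagonal_apply_eq]
    simp [dl]
  · rw [Matrix.diagonal_apply_ne _ h]
    have h0 : (3 : ℕ) ^ n ≠ 0 := by positivity
    by_cases h1 : a = a'
    · by_cases h2 : b = b'
      · by_cases h3 : c = c'
        · have h4 : e ≠ e' := by
            rintro rfl; exact h (by rw [h1, h2, h3])
          simp [Matrix.diagonal_apply_ne _ h4]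
        · simp [Matrix.diagonal_apply_ne _ h3]
      · simp [Matrix.diagonal_apply_ne _ h2]
    · simp [Matrix.diagonal_apply_ne _ h1]

theorem KL_scalar {η : L} (hη : η ^ 2 = 1) : KL n (η • 1 : Matrix (Fin 2) (Fin 2) L) = 1 := by
  have : (η • 1 : Matrix (Fin 2) (Fin 2) L) = Matrix.diagonal (fun _ => η) := by
    rw [Matrix.smul_one_eq_diagonal]
  rw [this, KL_diagonal, ← Matrix.diagonal_one]
  congr 1
  funext x
  have h3 : η ^ 3 = η := by rw [pow_succ, hη, one_mul]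
  have hq : η ^ (3 ^ n) = η := eta_pow_pn hη n
  rw [dl, h3, hq]
  calc η * η * η * η = (η ^ 2) * (η ^ 2) := by ring
    _ = 1 := by rw [hη, one_mul]

end

/-- Diagonalization of a `2 × 2` matrix with distinct eigenvalues `α^{±1}`. -/
theorem exists_diag {L : Type*} [Field L] {g : Matrix (Fin 2) (Fin 2) L} (hg : g.det = 1) {α : L}
    (h0 : α ≠ 0) (hne : α ≠ α⁻¹) (ht : g.trace = α + α⁻¹) :
    ∃ P Q : Matrix (Fin 2) (Fin 2) L, P * Q = 1 ∧ Q * P = 1 ∧
      g * P = P * Matrix.diagonal ![α, α⁻¹] := by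
  have hα : α⁻¹ * α = 1 := inv_mul_cancel₀ h0
  obtain ⟨v, hv, hv'⟩ := exists_eigen (S := g) (s := α) (by
    rw [hg, ht]; linear_combination (-1 : L) * hα)
  obtain ⟨w, hw, hw'⟩ := exists_eigen (S := g) (s := α⁻¹) (by
    rw [hg, ht]; linear_combination (-1 : L) * hα)
  let P : Matrix (Fin 2) (Fin 2) L := !![v 0, w 0; v 1, w 1]
  have ev0 := congrFun hv' 0
  have ev1 := congrFun hv' 1
  have ew0 := congrFun hw' 0
  have ew1 := congrFun hw' 1
  simp only [Matrix.mulVec, dotProduct, Fin.sum_univ_two, Pi.smul_apply, smul_eq_mul] at ev0 ev1 ew0 ew1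
  have hgP : g * P = P * Matrix.diagonal ![α, α⁻¹] := by
    ext i j
    fin_cases i <;> fin_cases j <;>
      simp [P, Matrix.mul_apply, Fin.sum_univ_two] <;>
      first
        | (rw [ev0]; ring)
        | (rw [ev1]; ring)
        | (rw [ew0]; ring)
        | (rw [ew1]; ring)
  have hdet : P.det ≠ 0 := by
    intro h
    obtain ⟨x, hx, hx'⟩ := Matrix.exists_mulVec_eq_zero_iff.2 h
    have e0 := congrFun hx' 0
    have e1 := congrFun hx' 1
    simp [P, Matrix.mulVec, dotProduct, Fin.sum_univ_two] at e0 e1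
    have hne' : α - α⁻¹ ≠ 0 := sub_ne_zero.2 hne
    have f0 : (α - α⁻¹) * (x 0 * v 0) = 0 := by
      linear_combination (g 0 0 - α⁻¹) * e0 + g 0 1 * e1 - x 0 * ev0 - x 1 * ew0
    have f1 : (α - α⁻¹) * (x 0 * v 1) = 0 := by
      linear_combination (g 1 1 - α⁻¹) * e1 + g 1 0 * e0 - x 0 * ev1 - x 1 * ew1
    have f0 := (mul_eq_zero.1 f0).resolve_left hne'
    have f1 := (mul_eq_zero.1 f1).resolve_left hne'
    have hx0 : x 0 = 0 := by
      by_contra h1
      apply hv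
      funext j
      fin_cases j
      · exact (mul_eq_zero.1 f0).resolve_left h1
      · exact (mul_eq_zero.1 f1).resolve_left h1
    rw [hx0, mul_zero, zero_add] at e0 e1
    have hx1 : x 1 = 0 := by
      by_contra h1
      apply hw
      funext j
      fin_cases j
      · exact (mul_eq_zero.1 e0).resolve_right h1
      · exact (mul_eq_zero.1 e1).resolve_right h1
    apply hx
    funext j
    fin_cases j
    · exact hx0
    · exact hx1
  have hu : IsUnit P.det := hdet.isUnit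
  exact ⟨P, P⁻¹, Matrix.mul_nonsing_inv _ hu, Matrix.nonsing_inv_mul _ hu, hgP⟩

section

variable {K : Type*} [Field K] [CharP K 3] {n : ℕ}

/-- The action on the tensor product. -/
noncomputable def rho3 (K : Type*) [Field K] [CharP K 3] (n : ℕ) :
    Matrix.SpecialLinearGroup (Fin 2) K →* Module.End K (I → K) where
  toFun g := Matrix.toLin' (KL n g.1)
  map_one' := by
    rw [Matrix.SpecialLinearGroup.coe_one, KL_one, Matrix.toLin'_one]; rfl
  map_mul' g h := by
    rw [Matrix.SpecialLinearGroup.coe_mul, KL_mul, Matrix.toLin'_mul]; rfl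

theorem rho3_apply (g : Matrix.SpecialLinearGroup (Fin 2) K) (Y : I → K) :
    rho3 K n g Y = KL n g.1 *ᵥ Y := rfl

/-- The action as a homomorphism to a group. -/
noncomputable def rhoU (K : Type*) [Field K] [CharP K 3] (n : ℕ) :
    Matrix.SpecialLinearGroup (Fin 2) K →* (Module.End K (I → K))ˣ :=
  (rho3 K n).toHomUnits

theorem rhoU_coe (g : Matrix.SpecialLinearGroup (Fin 2) K) : (rhoU K n g).val = rho3 K n g := rfl

theorem rhoU_pow_eq_one_iff {g : Matrix.SpecialLinearGroup (Fin 2) K} {k : ℕ} :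
    (rhoU K n g) ^ k = 1 ↔ KL n (g.1 ^ k) = 1 := by
  rw [← map_pow, Units.ext_iff, rhoU_coe, Units.val_one, ← Matrix.SpecialLinearGroup.coe_pow]
  constructor
  · intro h
    apply Matrix.toLin'.injective
    rw [Matrix.toLin'_one]; exact h
  · intro h
    change Matrix.toLin' (KL n (g ^ k).1) = 1
    rw [h, Matrix.toLin'_one]; rfl

theorem rhoU_pow_of_scalar {g : Matrix.SpecialLinearGroup (Fin 2) K} {m : ℕ} {η : K}
    (hη : η ^ 2 = 1) (h : g.1 ^ m = η • 1) : (rhoU K n g) ^ m = 1 := by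
  rw [rhoU_pow_eq_one_iff, h, KL_scalar n hη]

variable {L : Type*} [Field L] [CharP L 3] (i : K →+* L)

/-- A fixed vector gives a relation between the eigenvalues. -/
theorem rel_of_fixed {g : Matrix.SpecialLinearGroup (Fin 2) K} {α : L} (h0 : α ≠ 0)
    (hne : α ≠ α⁻¹) (ht : i g.1.trace = α + α⁻¹) {Y : I → K} (hY : Y ≠ 0)
    (h : KL n g.1 *ᵥ Y = Y) : ∃ x : I, dl n ![α, α⁻¹] x = 1 := by
  have hdet : (g.1.map i).det = 1 := by
    have := (RingHom.map_det i g.1).symm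
    rw [g.2, map_one] at this
    exact this
  have htr : (g.1.map i).trace = α + α⁻¹ := by
    rw [← ht, Matrix.trace_fin_two, Matrix.trace_fin_two]; simp
  obtain ⟨P, Q, hPQ, hQP, hgP⟩ := exists_diag hdet h0 hne htr
  have h1 : KL n (g.1.map i) *ᵥ (i ∘ Y) = i ∘ Y := by
    rw [← KL_map]
    funext x
    have h2 := congrArg i (congrFun h x)
    rw [Function.comp_apply, ← h2]
    simp only [Matrix.mulVec, dotProduct, map_sum, map_mul, Matrix.map_apply, Function.comp_apply]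
  set Z := KL n Q *ᵥ (i ∘ Y) with hZ
  have hZ0 : Z ≠ 0 := by
    intro hz
    apply hY
    have h2 : KL n P *ᵥ Z = i ∘ Y := by
      rw [hZ, Matrix.mulVec_mulVec, ← KL_mul, hPQ, KL_one, Matrix.one_mulVec]
    rw [hz, Matrix.mulVec_zero] at h2
    funext x
    have h3 := congrFun h2 x
    simp only [Pi.zero_apply, Function.comp_apply] at h3
    exact (map_eq_zero i).1 h3.symm
  have hD : Matrix.diagonal ![α, α⁻¹] * Q = Q * g.1.map i := by
    calc Matrix.diagonal ![α, α⁻¹] * Q = (Q * P) * Matrix.diagonal ![α, α⁻¹] * Q := by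
          rw [hQP, Matrix.one_mul]
      _ = Q * (P * Matrix.diagonal ![α, α⁻¹]) * Q := by simp only [Matrix.mul_assoc]
      _ = Q * (g.1.map i) * (P * Q) := by rw [← hgP]; simp only [Matrix.mul_assoc]
      _ = Q * g.1.map i := by rw [hPQ, Matrix.mul_one]
  have h2 : KL n (Matrix.diagonal ![α, α⁻¹]) *ᵥ Z = Z := by
    rw [hZ, Matrix.mulVec_mulVec, ← KL_mul, hD, KL_mul, ← Matrix.mulVec_mulVec, h1]
  rw [KL_diagonal] at h2
  obtain ⟨x, hx⟩ := Function.ne_iff.1 hZ0
  refine ⟨x, ?_⟩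
  have h3 := congrFun h2 x
  rw [Matrix.mulVec_diagonal] at h3
  exact mul_right_cancel₀ hx (by rw [h3, one_mul])

/-- The kernel of the action. -/
theorem sq_of_KL_pow {g : Matrix.SpecialLinearGroup (Fin 2) K} {α : L} (h0 : α ≠ 0)
    (hne : α ≠ α⁻¹) (ht : i g.1.trace = α + α⁻¹) {k : ℕ} (h : KL n (g.1 ^ k) = 1) :
    α ^ (2 * k) = 1 := by
  have hdet : (g.1.map i).det = 1 := by
    have := (RingHom.map_det i g.1).symm
    rw [g.2, map_one] at this
    exact this
  have htr : (g.1.map i).trace = α + α⁻¹ := by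
    rw [← ht, Matrix.trace_fin_two, Matrix.trace_fin_two]; simp
  obtain ⟨P, Q, hPQ, hQP, hgP⟩ := exists_diag hdet h0 hne htr
  have h1 : KL n ((g.1.map i) ^ k) = 1 := by
    have h2 : (g.1.map i) ^ k = (g.1 ^ k).map i := by
      rw [← RingHom.mapMatrix_apply, ← RingHom.mapMatrix_apply, map_pow]
    rw [h2, ← KL_map, h, Matrix.map_one _ (map_zero i) (map_one i)]
  have h2 : ∀ j : ℕ, (g.1.map i) ^ j * P = P * Matrix.diagonal ![α, α⁻¹] ^ j := by
    intro j
    induction j with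
    | zero => simp
    | succ j ih =>
      rw [pow_succ, Matrix.mul_assoc, hgP, ← Matrix.mul_assoc, ih, Matrix.mul_assoc, ← pow_succ]
  have h3 : Matrix.diagonal ![α, α⁻¹] ^ k = Q * ((g.1.map i) ^ k) * P := by
    rw [Matrix.mul_assoc, h2, ← Matrix.mul_assoc, hQP, Matrix.one_mul]
  have h4 : KL n (Matrix.diagonal ![α, α⁻¹] ^ k) = 1 := by
    rw [h3, KL_mul, KL_mul, h1, Matrix.mul_one, ← KL_mul, hQP, KL_one]
  rw [Matrix.diagonal_pow, KL_diagonal, ← Matrix.diagonal_one] at h4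
  have h5 := Matrix.diagonal_injective h4
  have e1 := congrFun h5 (((0, 0), 0), 0)
  have e2 := congrFun h5 (((1, 0), 0), 0)
  simp only [dl, Pi.pow_apply, Matrix.cons_val_zero, Matrix.cons_val_one, Matrix.cons_val_fin_one] at e1 e2
  have e3 : α ^ k = (α⁻¹) ^ k := by
    have hne0 : (α ^ k) ^ 3 * (α ^ k) ^ (3 ^ n) * (α ^ k) ^ (3 ^ n) ≠ 0 := by
      have := pow_ne_zero k h0
      positivity
    apply mul_right_cancel₀ hne0
    calc α ^ k * ((α ^ k) ^ 3 * (α ^ k) ^ (3 ^ n) * (α ^ k) ^ (3 ^ n))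
        = α ^ k * (α ^ k) ^ 3 * (α ^ k) ^ (3 ^ n) * (α ^ k) ^ (3 ^ n) := by ring
      _ = (α⁻¹) ^ k * (α ^ k) ^ 3 * (α ^ k) ^ (3 ^ n) * (α ^ k) ^ (3 ^ n) := by rw [e1, e2]
      _ = (α⁻¹) ^ k * ((α ^ k) ^ 3 * (α ^ k) ^ (3 ^ n) * (α ^ k) ^ (3 ^ n)) := by ring
  rw [two_mul, pow_add]
  nth_rewrite 1 [e3]
  rw [← mul_pow, inv_mul_cancel₀ h0, one_pow]

end

/-! ### arithmetic -/

theorem five_dvd {t : ℕ} {q : ℕ} (hq : q = 3 ^ (2 * t)) : ¬ 5 ∣ q ^ 2 + 1 := by
  have h1 : q ^ 2 ≡ 1 [MOD 5] := by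
    have h2 : q ^ 2 = 81 ^ t := by
      rw [hq, ← pow_mul, mul_comm (2 * t) 2, ← mul_assoc, pow_mul]
      norm_num
    rw [h2]
    have : 81 ≡ 1 [MOD 5] := by decide
    simpa using this.pow t
  intro h
  unfold Nat.ModEq at h1
  omega

theorem arith {t q o : ℕ} (hq : q = 3 ^ (2 * t)) (h3 : Nat.Coprime o 3) {z : ℤ}
    (hz : (o : ℤ) ∣ z)
    (hz' : z = 2 ∨ z = 4 ∨ z = 2 * q + 4 ∨ z = 2 * q - 4 ∨ z = 2 * q + 2 ∨ z = 2 * q - 2)
    (h : (o : ℤ) ∣ (q : ℤ) ^ 2 - 1 ∨ (o : ℤ) ∣ (q : ℤ) ^ 2 + 1) :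
    (o : ℤ) ∣ 4 ∨ (o : ℤ) ∣ 2 * (q - 1) ∨ (o : ℤ) ∣ 2 * (q + 1) := by
  have key : (o : ℤ) ∣ 2 * (q : ℤ) ^ 2 - 8 → (o : ℤ) ∣ 4 := by
    intro h1
    rcases h with h | h
    · have h2 : (o : ℤ) ∣ 6 := by
        have := (h.mul_left 2).sub h1
        ring_nf at this
        exact this
      have h4 : o ∣ 2 * 3 := by exact_mod_cast h2
      have h5 : o ∣ 2 := h3.dvd_of_dvd_mul_right h4
      have h6 : o ∣ 4 := h5.trans (by norm_num)
      exact_mod_cast h6
    · have h2 : (o : ℤ) ∣ 10 := by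
        have := (h.mul_left 2).sub h1
        ring_nf at this
        exact this
      have h4 : o ∣ 2 * 5 := by exact_mod_cast h2
      have h5 : o ∣ q ^ 2 + 1 := by exact_mod_cast h
      have h6 : Nat.Coprime o 5 := by
        rw [Nat.coprime_comm, Nat.Prime.coprime_iff_not_dvd Nat.prime_five]
        intro h7
        exact five_dvd hq (h7.trans h5)
      have h7 : o ∣ 2 := h6.dvd_of_dvd_mul_right h4
      have h8 : o ∣ 4 := h7.trans (by norm_num)
      exact_mod_cast h8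
  rcases hz' with rfl | rfl | rfl | rfl | rfl | rfl
  · left; exact hz.trans (by norm_num)
  · left; exact hz
  · left
    apply key
    have := hz.mul_left ((q : ℤ) - 2)
    ring_nf at this ⊢
    exact this
  · left
    apply key
    have := hz.mul_left ((q : ℤ) + 2)
    ring_nf at this ⊢
    exact this
  · right; right
    have : (2 * (q : ℤ) + 2) = 2 * (q + 1) := by ring
    rw [← this]; exact hz
  · right; left
    have : (2 * (q : ℤ) - 2) = 2 * (q - 1) := by ring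
    rw [← this]; exact hz

section

variable {K : Type*} [Field K] [Fintype K] [CharP K 3] {n t : ℕ}

/-- The eigenvalue exponent. -/
def ex (n : ℕ) (x : I) : ℤ :=
  (if x.1.1.1 = 0 then 1 else -1) + 3 * (if x.1.1.2 = 0 then 1 else -1) +
    3 ^ n * (if x.1.2 = 0 then 1 else -1) + 3 ^ n * (if x.2 = 0 then 1 else -1)

omit [Fintype K] [CharP K 3] in
theorem dl_eq {α : K} (h0 : α ≠ 0) (x : I) : dl n ![α, α⁻¹] x = α ^ (ex n x) := by
  have h1 : ∀ a : Fin 2, (![α, α⁻¹] : Fin 2 → K) a = α ^ (if a = 0 then (1 : ℤ) else -1) := by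
    intro a; fin_cases a <;> simp
  have h2 : ∀ (z : ℤ) (m : ℕ), (α ^ z) ^ m = α ^ ((m : ℤ) * z) := by
    intro z m
    rw [← zpow_natCast, ← _root_.zpow_mul, mul_comm]
  rw [dl, h1, h1, h1, h1, h2, h2, h2, ← zpow_add₀ h0, ← zpow_add₀ h0, ← zpow_add₀ h0, ex]
  push_cast
  rfl

/-- Upper bound in the presence of fixed points. -/
theorem up_fixed (ht : 1 ≤ t) (hn : n = 2 * t) (hK : Fintype.card K = 3 ^ (2 * n))
    {g : Matrix.SpecialLinearGroup (Fin 2) K} {Y : I → K} (hY : Y ≠ 0)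
    (h : KL n g.1 *ᵥ Y = Y) :
    (rhoU K n g) ^ (3 ^ n - 1) = 1 ∨ (rhoU K n g) ^ (3 ^ n + 1) = 1 ∨ (rhoU K n g) ^ 3 = 1 := by
  let L := AlgebraicClosure K
  let i : K →+* L := algebraMap K L
  have hL : CharP L 3 := charP_of_injective_ringHom i.injective 3
  obtain ⟨α, h0, hα⟩ := exists_root (i g.1.trace)
  have hlift : ∀ {m : ℕ} {η : L}, η ^ 2 = 1 → f (i g.1.trace) ∣ X ^ m - C η →
      (rhoU K n g) ^ m = 1 := by
    intro m η hη hd
    obtain ⟨c, hc⟩ : ∃ c : K, i c = η := by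
      have h1 : (η - 1) * (η + 1) = 0 := by linear_combination hη
      rcases mul_eq_zero.1 h1 with h2 | h2
      · exact ⟨1, by rw [map_one]; exact (sub_eq_zero.1 h2).symm⟩
      · exact ⟨-1, by rw [map_neg, map_one]; exact (eq_neg_of_add_eq_zero_left h2).symm⟩
    have hc2 : c ^ 2 = 1 := by
      apply i.injective
      rw [map_pow, hc, hη, map_one]
    apply rhoU_pow_of_scalar hc2
    apply pow_of_dvd (aeval_f g.1 g.2)
    rw [← Polynomial.map_dvd_map' i, f_map]
    simpa [hc] using hd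
  by_cases hne : α = α⁻¹
  · right; right
    have hα2 := sq_eq_one_of_eq_inv h0 hne
    apply hlift hα2
    have h3 := sub_pow_p (K := L) (p := 3) 1 α
    rw [pow_one, one_mul, eta_pow_p hα2] at h3
    have hf : f (i g.1.trace) = (X - C α) ^ 2 := by
      rw [hα, f_eq h0, ← hne]; ring
    rw [← h3, hf]
    exact pow_dvd_pow _ (by norm_num)
  obtain ⟨x, hx⟩ := rel_of_fixed i h0 hne hα hY h
  rw [dl_eq h0] at hx
  -- the order of `α`
  set o := orderOf α with ho
  have hdz : ∀ z : ℤ, α ^ z = 1 → (o : ℤ) ∣ z := by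
    intro z hz
    have h1 : (Units.mk0 α h0) ^ z = 1 := by
      apply Units.ext
      rw [Units.val_zpow_eq_zpow_val]
      exact hz
    have h2 := orderOf_dvd_iff_zpow_eq_one.2 h1
    rw [← orderOf_units] at h2
    exact h2
  have hcop : Nat.Coprime o 3 := by
    rw [Nat.coprime_comm, Nat.Prime.coprime_iff_not_dvd Nat.prime_three]
    intro h3
    obtain ⟨c, hc⟩ := h3
    have h1 : (α ^ c - 1) ^ 3 = 0 := by
      rw [sub_pow_char, ← pow_mul, mul_comm c 3, ← hc, ho, pow_orderOf_eq_one, one_pow, sub_self]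
    have h2 : α ^ c = 1 := sub_eq_zero.1 (pow_eq_zero_iff (by norm_num) |>.1 h1)
    have h4 : o ∣ c := orderOf_dvd_of_pow_eq_one h2
    have hfin : 0 < c := by
      rcases Nat.eq_zero_or_pos c with h5 | h5
      · exfalso
        rw [h5, mul_zero] at hc
        have := orderOf_eq_zero_iff.1 hc
        apply this
        -- α is a root of unity
        rw [isOfFinOrder_iff_pow_eq_one]
        have hαK : (i g.1.trace) ^ (3 ^ (2 * n)) = i g.1.trace := by
          rw [← map_pow, ← hK, FiniteField.pow_card]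
        have htq : (i g.1.trace) ^ (3 ^ (2 * n)) = α ^ (3 ^ (2 * n)) + (α ^ (3 ^ (2 * n)))⁻¹ := by
          rw [hα, pow_q_add, inv_pow]
        have h6 := pow_of_trace (q := 3 ^ (2 * n)) (Nat.one_le_pow _ _ (by norm_num)) h0
          (add_inv_eq (pow_ne_zero _ h0) h0 (by rw [← htq, hαK, hα]))
        have h7 : 3 ≤ 3 ^ (2 * n) := by
          calc 3 = 3 ^ 1 := by norm_num
            _ ≤ 3 ^ (2 * n) := Nat.pow_le_pow_right (by norm_num) (by omega)
        rcases h6 with h6 | h6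
        · exact ⟨_, by omega, h6⟩
        · exact ⟨_, by omega, h6⟩
      · exact h5
    have := Nat.le_of_dvd hfin h4
    omega
  have hq2 : (o : ℤ) ∣ ((3 ^ n : ℕ) : ℤ) ^ 2 - 1 ∨ (o : ℤ) ∣ ((3 ^ n : ℕ) : ℤ) ^ 2 + 1 := by
    have hαK : (i g.1.trace) ^ (3 ^ (2 * n)) = i g.1.trace := by
      rw [← map_pow, ← hK, FiniteField.pow_card]
    have htq : (i g.1.trace) ^ (3 ^ (2 * n)) = α ^ (3 ^ (2 * n)) + (α ^ (3 ^ (2 * n)))⁻¹ := by
      rw [hα, pow_q_add, inv_pow]
    have h6 := pow_of_trace (q := 3 ^ (2 * n)) (Nat.one_le_pow _ _ (by norm_num)) h0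
      (add_inv_eq (pow_ne_zero _ h0) h0 (by rw [← htq, hαK, hα]))
    have e : (3 : ℕ) ^ (2 * n) = (3 ^ n) ^ 2 := by rw [mul_comm, pow_mul]
    rcases h6 with h6 | h6
    · left
      have h7 : o ∣ 3 ^ (2 * n) - 1 := orderOf_dvd_of_pow_eq_one h6
      have h8 : ((3 ^ (2 * n) - 1 : ℕ) : ℤ) = ((3 ^ n : ℕ) : ℤ) ^ 2 - 1 := by
        rw [Nat.cast_sub (Nat.one_le_pow _ _ (by norm_num)), e]; push_cast; ring
      rw [← h8]
      exact_mod_cast h7
    · right
      have h7 : o ∣ 3 ^ (2 * n) + 1 := orderOf_dvd_of_pow_eq_one h6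
      have h8 : ((3 ^ (2 * n) + 1 : ℕ) : ℤ) = ((3 ^ n : ℕ) : ℤ) ^ 2 + 1 := by
        rw [e]; push_cast; ring
      rw [← h8]
      exact_mod_cast h7
  have hzz : ∃ z : ℤ, (o : ℤ) ∣ z ∧ (z = 2 ∨ z = 4 ∨ z = 2 * ((3 ^ n : ℕ) : ℤ) + 4 ∨
      z = 2 * ((3 ^ n : ℕ) : ℤ) - 4 ∨ z = 2 * ((3 ^ n : ℕ) : ℤ) + 2 ∨
      z = 2 * ((3 ^ n : ℕ) : ℤ) - 2) := by
    have hx' := hdz _ hx
    have hxn : (o : ℤ) ∣ -(ex n x) := (dvd_neg).2 hx'
    push_cast
    clear hx
    obtain ⟨⟨⟨a, b⟩, c⟩, e⟩ := x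
    unfold ex at hx' hxn
    generalize (3 : ℤ) ^ n = Q at *
    fin_cases a <;> fin_cases b <;> fin_cases c <;> fin_cases e <;>
      simp only [Fin.zero_eta, Fin.mk_one, Fin.isValue, if_true, one_ne_zero, if_false] at hx' hxn <;>
      first
        | exact ⟨_, hx', by omega⟩
        | exact ⟨_, hxn, by omega⟩
  obtain ⟨z, hz, hz'⟩ := hzz
  have hfin := arith (t := t) (q := 3 ^ n) (by rw [hn]) hcop hz hz' hq2
  have hdone : ∀ m : ℕ, (o : ℤ) ∣ 2 * (m : ℤ) → (rhoU K n g) ^ m = 1 := by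
    intro m hm
    have h1 : o ∣ 2 * m := by exact_mod_cast hm
    have h2 : (α ^ m) ^ 2 = 1 := by
      rw [← pow_mul, mul_comm m 2]
      exact orderOf_dvd_iff_pow_eq_one.1 h1
    apply hlift h2
    rw [hα]
    exact f_dvd h0 hne rfl h2
  have hq1 : 1 ≤ 3 ^ n := Nat.one_le_pow _ _ (by norm_num)
  rcases hfin with h1 | h1 | h1
  · left
    have h2 : (rhoU K n g) ^ 2 = 1 := hdone 2 (by norm_num; exact h1)
    have hodd : Odd (3 ^ n) := Odd.pow (by decide)
    obtain ⟨k, hk⟩ := hodd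
    rw [hk, show 2 * k + 1 - 1 = 2 * k by omega, pow_mul, h2, one_pow]
  · left
    apply hdone
    rw [Nat.cast_sub hq1]
    exact h1
  · right; left
    apply hdone
    push_cast
    push_cast at h1
    exact h1

end

section

variable {K : Type*} [Field K] [Fintype K] [CharP K 3] {n t : ℕ}

omit [Fintype K] in
/-- The orders of `g` in the two actions agree. -/
theorem orders_eq {g : Matrix.SpecialLinearGroup (Fin 2) K}
    (h3 : ¬ orderOf (actU (bar K 3 n) g) ∣ 3) :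
    orderOf (rhoU K n g) = orderOf (actU (bar K 3 n) g) := by
  let L := AlgebraicClosure K
  let i : K →+* L := algebraMap K L
  have hL : CharP L 3 := charP_of_injective_ringHom i.injective 3
  obtain ⟨α, h0, hα⟩ := exists_root (i g.1.trace)
  have hlift : ∀ {m : ℕ} {η : L}, η ^ 2 = 1 → f (i g.1.trace) ∣ X ^ m - C η →
      (actU (bar K 3 n) g) ^ m = 1 := by
    intro m η hη hd
    obtain ⟨c, hc⟩ : ∃ c : K, i c = η := by
      have h1 : (η - 1) * (η + 1) = 0 := by linear_combination hη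
      rcases mul_eq_zero.1 h1 with h2 | h2
      · exact ⟨1, by rw [map_one]; exact (sub_eq_zero.1 h2).symm⟩
      · exact ⟨-1, by rw [map_neg, map_one]; exact (eq_neg_of_add_eq_zero_left h2).symm⟩
    have hc2 : c ^ 2 = 1 := by
      apply i.injective
      rw [map_pow, hc, hη, map_one]
    apply actU_pow_eq_one hc2
    apply pow_of_dvd (aeval_f g.1 g.2)
    rw [← Polynomial.map_dvd_map' i, f_map]
    simpa [hc] using hd
  have hne : α ≠ α⁻¹ := by
    intro hne
    apply h3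
    apply orderOf_dvd_of_pow_eq_one
    have hα2 := sq_eq_one_of_eq_inv h0 hne
    apply hlift hα2
    have h3 := sub_pow_p (K := L) (p := 3) 1 α
    rw [pow_one, one_mul, eta_pow_p hα2] at h3
    have hf : f (i g.1.trace) = (X - C α) ^ 2 := by
      rw [hα, f_eq h0, ← hne]; ring
    rw [← h3, hf]
    exact pow_dvd_pow _ (by norm_num)
  apply Nat.dvd_antisymm
  · apply orderOf_dvd_of_pow_eq_one
    obtain ⟨c, hc, hc'⟩ := scalar_of_actU_pow (pow_orderOf_eq_one (actU (bar K 3 n) g))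
    exact rhoU_pow_of_scalar hc hc'
  · apply orderOf_dvd_of_pow_eq_one
    have h1 := rhoU_pow_eq_one_iff.1 (pow_orderOf_eq_one (rhoU K n g))
    have h2 := sq_of_KL_pow i h0 hne hα h1
    have h4 : (α ^ orderOf (rhoU K n g)) ^ 2 = 1 := by rw [← pow_mul, mul_comm, h2]
    apply hlift h4
    rw [hα]
    exact f_dvd h0 hne rfl h4

omit [Fintype K] in
/-- Elements of order `3 (q ∓ 1)`. -/
theorem low_mixed {M : ℕ} (hM2 : 2 ≤ M) (h3M : ¬ 3 ∣ M) {β : Kˣ} (hβ : orderOf β = 2 * M) {x : I}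
    (hx : (2 * M : ℤ) ∣ ex n x) :
    orderOf (rhoU K n (dg β)) = M ∧ Aff.T M (rho3 K n (dg β)) ≠ 0 := by
  have hβ0 : (β : K) ≠ 0 := β.ne_zero
  have hβ1 : (β : K) ^ (2 * M) = 1 := by
    rw [← hβ, ← Units.val_pow_eq_pow_val, pow_orderOf_eq_one, Units.val_one]
  have hdvd : ∀ m : ℕ, (β : K) ^ m = 1 → 2 * M ∣ m := by
    intro m hm
    rw [← hβ]
    apply orderOf_dvd_of_pow_eq_one
    apply Units.ext
    rw [Units.val_pow_eq_pow_val, hm, Units.val_one]
  have hne : (β : K) ≠ (β : K)⁻¹ := by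
    intro h
    have := Nat.le_of_dvd (by norm_num) (hdvd 2 (sq_eq_one_of_eq_inv hβ0 h))
    omega
  have hη : ((β : K) ^ M) ^ 2 = 1 := by rw [← pow_mul, mul_comm, hβ1]
  constructor
  · apply Nat.dvd_antisymm
    · apply orderOf_dvd_of_pow_eq_one
      apply rhoU_pow_of_scalar hη
      rw [dg, diag_pow, inv_pow, inv_eq_of_sq hη]
      ext i j
      fin_cases i <;> fin_cases j <;> simp
    · have h1 := rhoU_pow_eq_one_iff.1 (pow_orderOf_eq_one (rhoU K n (dg β)))
      have h2 := sq_of_KL_pow (RingHom.id K) hβ0 hne (by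
        simp [dg, Matrix.trace_fin_two]) h1
      exact Nat.dvd_of_mul_dvd_mul_left (by norm_num) (hdvd _ h2)
  · intro h
    have hfix : rho3 K n (dg β) (Pi.single x 1) = Pi.single x 1 := by
      rw [rho3_apply]
      have e : (dg β).1 = Matrix.diagonal ![(β : K), (β : K)⁻¹] := by
        rw [dg]
        ext i j
        fin_cases i <;> fin_cases j <;> simp
      rw [e, KL_diagonal]
      funext y
      rw [Matrix.mulVec_diagonal]
      by_cases hy : y = x
      · subst hy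
        rw [Pi.single_eq_same, mul_one, dl_eq hβ0]
        obtain ⟨c, hc⟩ := hx
        have h2 : (β : K) ^ (2 * M : ℤ) = 1 := by exact_mod_cast hβ1
        rw [hc, _root_.zpow_mul, h2, _root_.one_zpow]
      · rw [Pi.single_eq_of_ne hy, mul_zero]
    have h2 := Aff.T_of_fixed (k := M) hfix
    rw [h, LinearMap.zero_apply] at h2
    rcases smul_eq_zero.1 h2.symm with h4 | h4
    · exact h3M ((CharP.cast_eq_zero_iff K 3 M).1 h4)
    · have := congrFun h4 x
      simp at this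

end

/-- The case `q = 3 ^ (2 t)`. -/
theorem case_three {n t : ℕ} {F : Type*} [Field F] [Fintype F] [CharP F 3]
    (ht : 1 ≤ t) (hn : n = 2 * t) (hF : Fintype.card F = 3 ^ n) (N : ℕ) :
    ∃ (H : Type) (_ : Group H) (_ : Fintype H), N < Fintype.card H ∧
      Set.range (orderOf : H → ℕ) = Set.range (orderOf : Cfsg.PSp 2 F → ℕ) := by
  have hn0 : n ≠ 0 := by omega
  obtain ⟨K, iK, iF, iC, hK⟩ := exists_field 3 n hn0
  have h9 : 9 ≤ 3 ^ n := by
    calc 9 = 3 ^ 2 := by norm_num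
      _ ≤ 3 ^ n := Nat.pow_le_pow_right (by norm_num) (by omega)
  have hodd : Odd (3 ^ n) := Odd.pow (by decide)
  have hg2 : Nat.gcd 2 (3 ^ n - 1) = 2 := gcd_of_odd hodd
  have h2p : 2 ∣ 3 ^ n - 1 := by obtain ⟨k, hk⟩ := hodd; exact ⟨k, by omega⟩
  have h2p' : 2 ∣ 3 ^ n + 1 := by obtain ⟨k, hk⟩ := hodd; exact ⟨k + 1, by omega⟩
  obtain ⟨⟨t1, ht1⟩, ⟨t2, ht2⟩⟩ := low_conj (K := K) (p := 3) hn0 (by omega) hK
  have h3d : 3 ∣ 3 ^ n := dvd_pow_self 3 hn0
  let A := (rhoU K n).range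
  have hmem : ∀ g, rhoU K n g ∈ A := fun g => ⟨g, rfl⟩
  have hoo : ∀ g, orderOf (⟨rhoU K n g, hmem g⟩ : A) = orderOf (rhoU K n g) :=
    fun g => Subgroup.orderOf_mk _ _
  obtain ⟨β, hβ⟩ := exists_gen (K := K)
  have hcard : Fintype.card K - 1 = (3 ^ n - 1) * (3 ^ n + 1) := by
    rw [hK, mul_comm, pow_mul, sq_sub_one (3 ^ n) (by omega)]
  rw [hcard] at hβ
  have hmixed : ∀ {M : ℕ} {β' : Kˣ} {x : I}, 2 ≤ M → ¬ 3 ∣ M → orderOf β' = 2 * M →
      (2 * M : ℤ) ∣ ex n x → ∃ a, P (repOf A) 3 a (3 * M) := by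
    intro M β' x h1 h2 h3 h4
    obtain ⟨h5, h6⟩ := low_mixed (n := n) h1 h2 h3 h4
    refine ⟨⟨rhoU K n (dg β'), hmem _⟩, Or.inr ?_⟩
    rw [hoo, h5]
    exact ⟨rfl, h6⟩
  have hbig : ∀ {M : ℕ}, 4 ≤ M → ¬ M ∣ 3 := by
    intro M hM h
    have := Nat.le_of_dvd (by norm_num) h
    omega
  have h81 : 81 ≤ (3 ^ n) ^ 2 := by
    calc 81 = 9 ^ 2 := by norm_num
      _ ≤ (3 ^ n) ^ 2 := Nat.pow_le_pow_left h9 2
  refine assemble (p := 3) (repOf A) hn0 hF (by omega) ?_ ?_ ?_ ?_ ?_ ?_ ?_ N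
  · -- upper bound
    intro a m hm
    obtain ⟨g, hg⟩ := a.2
    have ho : orderOf a = orderOf (rhoU K n g) := by
      rw [hg, Subgroup.orderOf_coe]
    rcases hm with rfl | ⟨rfl, hT⟩
    · rw [ho]
      obtain ⟨m, η, hm, hη, h⟩ := exists_pow_two (p := 3) (k := 2 * n) g.1 g.2 (by
        rw [← hK, FiniteField.pow_card])
      have h1 := orderOf_dvd_of_pow_eq_one (rhoU_pow_of_scalar (n := n) hη h)
      rw [gcd_eq hn0, mul_comm 2 n, pow_mul] at hm
      rcases hm with h2 | h2 | ⟨h2, -⟩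
      · rw [h2] at h1; exact Or.inr (Or.inr (Or.inl h1))
      · rw [h2] at h1; exact Or.inr (Or.inr (Or.inr (Or.inl h1)))
      · rw [h2] at h1; exact Or.inl (h1.trans (Dvd.intro _ rfl))
    · have hT' : Aff.T (orderOf (rhoU K n g)) (rho3 K n g) ≠ 0 := by
        rw [← ho, ← rhoU_coe, hg]
        exact hT
      rw [ho]
      obtain ⟨w, hw⟩ : ∃ w, Aff.T (orderOf (rhoU K n g)) (rho3 K n g) w ≠ 0 := by
        by_contra hcon
        push Not at hcon
        exact hT' (LinearMap.ext hcon)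
      have h1 : (rho3 K n g) (Aff.T (orderOf (rhoU K n g)) (rho3 K n g) w) =
          Aff.T (orderOf (rhoU K n g)) (rho3 K n g) w := by
        have h2 := Aff.mul_T (orderOf (rhoU K n g)) (rho3 K n g)
        have h3 : (rho3 K n g) ^ (orderOf (rhoU K n g)) = 1 := by
          rw [← rhoU_coe, ← Units.val_pow_eq_pow_val, pow_orderOf_eq_one, Units.val_one]
        rw [h3, sub_self] at h2
        have h4 := LinearMap.congr_fun h2 w
        rw [Module.End.mul_apply, LinearMap.sub_apply, Module.End.one_apply, LinearMap.zero_apply,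
          sub_eq_zero] at h4
        exact h4
      rcases up_fixed ht hn hK hw h1 with h | h | h
      · exact Or.inl (Nat.mul_dvd_mul_left 3 (orderOf_dvd_of_pow_eq_one h))
      · exact Or.inr (Or.inl (Nat.mul_dvd_mul_left 3 (orderOf_dvd_of_pow_eq_one h)))
      · refine Or.inr (Or.inr (Or.inr (Or.inr (Or.inl ⟨rfl, ?_⟩))))
        exact Nat.mul_dvd_mul_left 3 (orderOf_dvd_of_pow_eq_one h)
  · -- `3 (q - 1)`
    obtain ⟨k, hk⟩ := h2p'
    refine hmixed (M := 3 ^ n - 1) (β' := β ^ k) (x := (((0, 1), 0), 0)) (by omega) (by omega) ?_ ?_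
    · rw [orderOf_pow_of_dvd (by omega), hβ]
      · rw [hk]
        have : (3 ^ n - 1) * (2 * k) = (2 * (3 ^ n - 1)) * k := by ring
        rw [this, Nat.mul_div_cancel _ (by omega)]
      · rw [hβ, hk]
        exact ⟨(3 ^ n - 1) * 2, by ring⟩
    · rw [Nat.cast_sub (by omega)]
      refine ⟨1, ?_⟩
      simp only [ex]
      push_cast
      simp
      ring
  · -- `3 (q + 1)`
    obtain ⟨k, hk⟩ := h2p
    refine hmixed (M := 3 ^ n + 1) (β' := β ^ k) (x := (((1, 0), 0), 0)) (by omega) (by omega) ?_ ?_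
    · rw [orderOf_pow_of_dvd (by omega), hβ]
      · rw [hk]
        have : (2 * k) * (3 ^ n + 1) = (2 * (3 ^ n + 1)) * k := by ring
        rw [this, Nat.mul_div_cancel _ (by omega)]
      · rw [hβ, hk]
        exact ⟨2 * (3 ^ n + 1), by ring⟩
    · refine ⟨1, ?_⟩
      simp only [ex]
      push_cast
      simp
      ring
  · refine ⟨⟨rhoU K n (cm t1), hmem _⟩, Or.inl ?_⟩
    rw [hoo, orders_eq (by rw [ht1, hg2]; apply hbig; omega), ht1]
  · refine ⟨⟨rhoU K n (cm t2), hmem _⟩, Or.inl ?_⟩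
    rw [hoo, orders_eq (by rw [ht2, hg2]; apply hbig; omega), ht2]
  · -- an element of order nine
    intro _
    let u : K → Matrix.SpecialLinearGroup (Fin 2) K := fun c => ⟨!![1, c; 0, 1], by
      rw [Matrix.det_fin_two_of]; ring⟩
    have hu : ∀ k : ℕ, (u 1).1 ^ k = (u k).1 := by
      intro k
      induction k with
      | zero => ext i j; fin_cases i <;> fin_cases j <;> simp [u]
      | succ k ih =>
        rw [pow_succ, ih]
        ext i j
        fin_cases i <;> fin_cases j <;> simp [u, add_comm]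
    have h30 : ((3 : ℕ) : K) = 0 := CharP.cast_eq_zero K 3
    have hE : ∀ c : K, KL n (u c).1 (((0, 0), 0), 0) (((1, 1), 0), 0) = c ^ 4 := by
      intro c
      rw [KL_apply]
      simp [u]
      ring
    have hord : orderOf (rhoU K n (u 1)) = 3 := by
      apply orderOf_eq_prime
      · rw [rhoU_pow_eq_one_iff, hu, h30]
        have : (u 0).1 = 1 := by ext i j; fin_cases i <;> fin_cases j <;> simp [u]
        rw [this, KL_one]
      · intro h
        have h1 := (rhoU_pow_eq_one_iff (k := 1)).1 (by rw [pow_one]; exact h)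
        rw [pow_one] at h1
        have h2 := hE 1
        rw [h1] at h2
        simp at h2
    refine ⟨⟨rhoU K n (u 1), hmem _⟩, Or.inr ?_⟩
    rw [hoo, hord]
    refine ⟨rfl, ?_⟩
    intro h
    have h1 : Aff.T 3 (rho3 K n (u 1)) = 0 := h
    have h2 := LinearMap.congr_fun h1 (Pi.single (((1, 1), 0), 0) 1)
    have h3 : ∀ k : ℕ, ((rho3 K n (u 1)) ^ k) (Pi.single (((1, 1), 0), 0) 1) (((0, 0), 0), 0) =
        (k : K) ^ 4 := by
      intro k
      have e : (rho3 K n (u 1)) ^ k = rho3 K n ((u 1) ^ k) := (map_pow _ _ _).symm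
      rw [e, rho3_apply, Matrix.SpecialLinearGroup.coe_pow, hu, Matrix.mulVec_single_one]
      exact hE k
    have h4 := congrFun h2 (((0, 0), 0), 0)
    rw [Aff.T, LinearMap.sum_apply, Finset.sum_apply, Finset.sum_range_succ,
      Finset.sum_range_succ, Finset.sum_range_one, h3, h3, h3, LinearMap.zero_apply,
      Pi.zero_apply] at h4
    have h5 : ((17 : ℕ) : K) = 0 := by
      push_cast at h4 ⊢
      linear_combination h4
    rw [CharP.cast_eq_zero_iff K 3] at h5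
    omega
  · intro h; omega

end Cfsg.Agent.H374.Iso3
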